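import Mathlib
import Cfsg.Agent.Lib.Helper13.Avoid

/-!
# Normalizers of Hall complements avoid eccentric minimal normal subgroups (helper13)
-/

set_option autoImplicit false

namespace Cfsg.Agent.Lib.Helper13

open Cfsg

/-- A non-central minimal normal `p`-subgroup of a finite solvable group meets the normalizer of
every Hall `p`-complement trivially. -/
theorem minimal_normal_inf_normalizer_hall {G : Type*} [Group G] [Finite G] [Group.IsSolvable G]
    (N : Subgroup G) [hNn : N.Normal] (hN : N ≠ ⊥)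
    (hmin : ∀ K : Subgroup G, K.Normal → K ≤ N → K = ⊥ ∨ K = N)
    (hnc : ¬ N ≤ Subgroup.center G)
    {p : ℕ} (hp : p.Prime) (hNp : IsPGroup p N)
    (H : Subgroup G) (a : ℕ) (hHidx : H.index = p ^ a) (hHcard : ¬ p ∣ Nat.card H) :
    N ⊓ Subgroup.normalizer (H : Set G) = ⊥ := by
  haveI : Fact p.Prime := ⟨hp⟩
  have hpd : p ∣ Nat.card N := by
    obtain ⟨n, hn⟩ := hNp.exists_card_eq
    rcases Nat.eq_zero_or_pos n with h0 | h0
    · exfalso
      apply hN
      rw [h0, pow_zero] at hn
      exact Subgroup.card_eq_one.mp hn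
    · rw [hn]
      exact dvd_pow_self p h0.ne'
  have hNH : N ⊓ H = ⊥ := by
    obtain ⟨n, hn⟩ := hNp.exists_card_eq
    refine (Subgroup.disjoint_of_coprime_natCard ?_).eq_bot
    rw [hn]
    exact Nat.Coprime.pow_left n ((Nat.Prime.coprime_iff_not_dvd hp).mpr hHcard)
  have hcent : ∀ n ∈ N, n ∈ Subgroup.normalizer (H : Set G) → ∀ k ∈ H, n * k = k * n := by
    intro n hn hnH k hk
    have h1 : n * k * n⁻¹ * k⁻¹ ∈ N ⊓ H := by
      refine Subgroup.mem_inf.mpr ⟨?_, ?_⟩
      · have : n * k * n⁻¹ * k⁻¹ = n * (k * n⁻¹ * k⁻¹) := by group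
        rw [this]
        exact N.mul_mem hn (hNn.conj_mem _ (N.inv_mem hn) k)
      · exact H.mul_mem ((Subgroup.mem_normalizer_iff.mp hnH k).mp hk) (H.inv_mem hk)
    rw [hNH, Subgroup.mem_bot] at h1
    calc n * k = (n * k * n⁻¹ * k⁻¹) * (k * n) := by group
      _ = k * n := by rw [h1, one_mul]
  obtain ⟨C, hC⟩ : ∃ C : Subgroup G, C = Subgroup.centralizer (N : Set G) := ⟨_, rfl⟩
  haveI hCn : C.Normal := by
    rw [hC]
    exact Subgroup.normal_centralizer
  have hCmem : ∀ c ∈ C, ∀ n ∈ N, n * c = c * n := by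
    intro c hc n hn
    rw [hC] at hc
    exact Subgroup.mem_centralizer_iff.mp hc n hn
  have hCtop : C ≠ ⊤ := by
    intro h
    apply hnc
    intro n hn
    rw [Subgroup.mem_center_iff]
    intro g
    have hg : g ∈ C := h ▸ Subgroup.mem_top g
    exact (hCmem g hg n hn).symm
  haveI : Nontrivial (G ⧸ C) := QuotientGroup.nontrivial_iff.mpr hCtop
  obtain ⟨Rb, -, hRbn, hRb, hRbmin⟩ := exists_minimal_normal_le (⊤ : Subgroup (G ⧸ C))
    inferInstance top_ne_bot
  obtain ⟨r, hr, -, -, -, hRbr⟩ := minimal_normal_solvable Rb hRbn hRb hRbmin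
  obtain ⟨R, hR⟩ : ∃ R : Subgroup G, R = Rb.comap (QuotientGroup.mk' C) := ⟨_, rfl⟩
  haveI hRn : R.Normal := by
    rw [hR]
    exact hRbn.comap _
  have hRC : ¬ R ≤ C := by
    intro h
    apply hRb
    rw [Subgroup.eq_bot_iff_forall]
    intro y hy
    obtain ⟨x, rfl⟩ := QuotientGroup.mk'_surjective C y
    have hx : x ∈ R := by
      rw [hR]
      exact hy
    exact (QuotientGroup.eq_one_iff x).mpr (h hx)
  have key : ∀ L : Subgroup G, Nat.Coprime r L.index → R ≤ L ⊔ C := by
    intro L hL
    have h1 : Rb ≤ L.map (QuotientGroup.mk' C) := by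
      haveI := hRbn
      apply normal_pgroup_le hr Rb _ hRbr
      exact Nat.Coprime.coprime_dvd_right
        (Subgroup.index_map_dvd _ (QuotientGroup.mk'_surjective C)) hL
    have h2 : R ≤ (L.map (QuotientGroup.mk' C)).comap (QuotientGroup.mk' C) := by
      rw [hR]
      exact Subgroup.comap_mono h1
    rwa [Subgroup.comap_map_eq, QuotientGroup.ker_mk'] at h2
  have hNR : N ⊓ Subgroup.centralizer (R : Set G) = ⊥ := by
    haveI : (Subgroup.centralizer (R : Set G)).Normal := Subgroup.normal_centralizer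
    rcases hmin (N ⊓ Subgroup.centralizer (R : Set G)) inferInstance inf_le_left with h | h
    · exact h
    · exfalso
      apply hRC
      intro x hx
      rw [hC, Subgroup.mem_centralizer_iff]
      intro n hn
      have hn' : n ∈ Subgroup.centralizer (R : Set G) := (Subgroup.mem_inf.mp (h.ge hn)).2
      exact (Subgroup.mem_centralizer_iff.mp hn' x hx).symm
  have hfix : ∀ L : Subgroup G, R ≤ L ⊔ C → ∀ n ∈ N, (∀ k ∈ L, n * k = k * n) → n = 1 := by
    intro L hL n hn hnL
    have h0 : n ∈ N ⊓ Subgroup.centralizer (R : Set G) := by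
      refine Subgroup.mem_inf.mpr ⟨hn, ?_⟩
      rw [Subgroup.mem_centralizer_iff]
      intro x hx
      have hx' := hL hx
      rw [Subgroup.mem_sup_of_normal_right] at hx'
      obtain ⟨l, hl, c, hc, rfl⟩ := hx'
      have h1 : n * c = c * n := hCmem c hc n hn
      have h2 := hnL l hl
      calc l * c * n = l * (c * n) := by group
        _ = l * (n * c) := by rw [h1]
        _ = (l * n) * c := by group
        _ = (n * l) * c := by rw [h2]
        _ = n * (l * c) := by group
    rw [hNR, Subgroup.mem_bot] at h0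
    exact h0
  by_cases hrp : r = p
  · exfalso
    subst hrp
    obtain ⟨P⟩ : Nonempty (Sylow r G) := inferInstance
    have hPidx : Nat.Coprime r (P : Subgroup G).index :=
      (Nat.Prime.coprime_iff_not_dvd hr).mpr P.not_dvd_index
    have h1 := key P hPidx
    have h2 : r ∣ Nat.card (N ⊓ Subgroup.centralizer ((P : Subgroup G) : Set G) : Subgroup G) :=
      Cfsg.Agent.Lib.Helper66.dvd_card_inf_centralizer P.isPGroup' hpd
        (by rw [Subgroup.normalizer_eq_top]; exact le_top)
    have h3 : N ⊓ Subgroup.centralizer ((P : Subgroup G) : Set G) = ⊥ := by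
      rw [Subgroup.eq_bot_iff_forall]
      intro n hn
      obtain ⟨hn1, hn2⟩ := Subgroup.mem_inf.mp hn
      apply hfix P h1 n hn1
      intro k hk
      exact (Subgroup.mem_centralizer_iff.mp hn2 k hk).symm
    rw [h3, Subgroup.card_bot] at h2
    exact hr.one_lt.ne' (Nat.dvd_one.mp h2)
  · have hHr : Nat.Coprime r H.index := by
      rw [hHidx]
      exact Nat.Coprime.pow_right _ ((Nat.coprime_primes hr hp).mpr hrp)
    have h1 := key H hHr
    rw [Subgroup.eq_bot_iff_forall]
    intro n hn
    obtain ⟨hn1, hn2⟩ := Subgroup.mem_inf.mp hn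
    exact hfix H h1 n hn1 (hcent n hn1 hn2)

end Cfsg.Agent.Lib.Helper13
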