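import Cfsg.Agent.Lib.Helper15.BG13CDefs
import Cfsg.Agent.S1414
import Cfsg.Agent.S1416
import Cfsg.Agent.S1417

/-!
# B&G Corollary 13.3(b) (row S1428), piece C-RED (helper15's project; proved by helper13)

The reduction, part 2: the row follows from `Red1Stmt`.
-/

set_option autoImplicit false

open Cfsg Cfsg.Agent.Lib.Helper32 Cfsg.Agent.Lib.Helper32.BG10 Cfsg.Agent.Lib.Helper3.BG12
open Cfsg.Agent.Lib.Helper3.BG13T Cfsg.Agent.Lib.Helper3.BG12S Cfsg.Agent.Lib.Helper3.BG13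

namespace Cfsg.Agent.Lib.Helper15.BG13C

universe u

variable {G : Type u} [Group G] [Finite G]

omit [Finite G] in
theorem red_normalizer_sup {Y P R : Subgroup G} (hY : R ≤ Subgroup.normalizer (Y : Set G))
    (hP : R ≤ Subgroup.normalizer (P : Set G)) :
    R ≤ Subgroup.normalizer ((Y ⊔ P : Subgroup G) : Set G) := by
  intro x hx
  rw [← cj_eq_self_iff]
  have e1 : cj x Y = Y := cj_eq_self_iff.mpr (hY hx)
  have e2 : cj x P = P := cj_eq_self_iff.mpr (hP hx)
  unfold cj at e1 e2 ⊢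
  rw [Subgroup.map_sup, e1, e2]

theorem red_isPGroup_of_card {p : ℕ} [Fact p.Prime] {P : Subgroup G} (hP : Nat.card P = p) :
    IsPGroup p P :=
  IsPGroup.of_card (n := 1) (by rw [hP, pow_one])

theorem red_ne_bot_of_card {p : ℕ} (hp : p.Prime) {P : Subgroup G} (hP : Nat.card P = p) :
    P ≠ ⊥ := by
  intro h
  rw [h, Subgroup.card_bot] at hP
  exact hp.one_lt.ne hP

theorem red (h1 : Red1Stmt G) : RowStmt G := by
  intro hG M hM E hE p hp P hPE hP R hRE hR
  have h14 : H14 G := fun M hM => Cfsg.Agent.S1414.result hG M hM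
  have h16 : H16 G := fun M hM p _ A hA => Cfsg.Agent.S1416.result hG M hM p A hA
  have h17 : H17 G := fun M hM p _ hp A hA => Cfsg.Agent.S1417.result hG M hM p hp A hA
  have h18 := Cfsg.Agent.Lib.Helper3.BG12.h18_of hG h16 h17
  have hpp : p.Prime := hp.1
  haveI : Fact p.Prime := ⟨hpp⟩
  haveI : Fact (Nat.card R).Prime := ⟨hR⟩
  suffices hRY : R ≤ Subgroup.centralizer
      ((sigmaCore M ⊓ Subgroup.centralizer (P : Set G) : Subgroup G) : Set G) by
    refine le_inf inf_le_left ?_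
    intro y hy
    rw [Subgroup.mem_centralizer_iff]
    intro x hx
    exact ((Subgroup.mem_centralizer_iff.mp (hRY hx)) y hy).symm
  set Y : Subgroup G := sigmaCore M ⊓ Subgroup.centralizer (P : Set G) with hYdef
  have hPM : P ≤ M := hPE.trans hE.1
  have hRM : R ≤ M := (hRE.trans inf_le_left).trans hE.1
  have hRP : R ≤ Subgroup.centralizer (P : Set G) := hRE.trans inf_le_right
  have hR1 : R ≠ ⊥ := red_ne_bot_of_card hR rfl
  have hRp : IsPGroup (Nat.card R) R := red_isPGroup_of_card rfl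
  have hPp : IsPGroup p P := red_isPGroup_of_card hP
  have hrM : Nat.card R ∉ sigma M := by
    intro hrσ
    have h2 : R ≤ sigmaCore M := pgroup_le_sigmaCore hG hM hrσ hRp hRM
    have h3 : R ≤ E ⊓ sigmaCore M := le_inf (hRE.trans inf_le_left) h2
    rw [hE.2.2.1] at h3
    exact hR1 (le_bot_iff.mp h3)
  have hP1 : P ≠ ⊥ := red_ne_bot_of_card hpp hP
  have hPtop : P ≠ ⊤ := by
    intro h
    rw [h] at hPM
    exact hM.1 (top_le_iff.mp hPM)
  obtain ⟨H, hH, hNH⟩ := exists_coatom_ge (minSimple_normalizer_ne_top hG hP1 hPtop)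
  have hPH : P ≤ H := Subgroup.le_normalizer.trans hNH
  have hRNP : R ≤ Subgroup.normalizer (P : Set G) :=
    hRP.trans (Subgroup.centralizer_le_normalizer _)
  have hRH : R ≤ H := hRNP.trans hNH
  have hYH : Y ≤ H :=
    (inf_le_right.trans (Subgroup.centralizer_le_normalizer _)).trans hNH
  have hYM : Y ≤ sigmaCore M := inf_le_left
  have hRNY : R ≤ Subgroup.normalizer (Y : Set G) :=
    le_normalizer_inf_centralizer (hRM.trans (le_normalizer_map_subtype M _)) hRNP
  by_cases hpH : p ∈ sigma H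
  · exact h1 hG M H hM hH p hp hpH P hPM hPH hP (Nat.card R) R hRM hRH hRP rfl hrM Y hYM hYH hRNY
  · -- `p ∈ τ₂(H)`
    obtain ⟨⟨hr2, hr1⟩, -, -⟩ := h6_of hG H hH p hpH P hP hNH
    have hτ : p ∈ tau2 H := ⟨hpp, hpH, hr2, hr1⟩
    obtain ⟨A₀, hA₀E, hA₀el, hA₀c⟩ : ∃ A₀ : Subgroup G, A₀ ≤ H ∧ IsElementaryAbelian p A₀ ∧
        Nat.card A₀ = p ^ 2 := by
      obtain ⟨Q, hQ⟩ := sylSet_nonempty p H
      obtain ⟨A₀, hA₀, h1, h2⟩ := exists_elemAb2_le_sylSet hr1 hQ
      exact ⟨A₀, hA₀.trans hQ.1, h1, h2⟩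
    have hnil : Group.IsNilpotent ↥(sigmaCore H) := (h17 H hH p hτ A₀ ⟨hA₀E, hA₀el, hA₀c⟩).1
    -- `σ(M) ∩ σ(H) = ∅`
    have hdisj : ∀ q : ℕ, q.Prime → q ∈ sigma M → q ∉ sigma H := by
      intro q hq hqM hqH
      have : Fact q.Prime := ⟨hq⟩
      obtain ⟨g, hg⟩ := exists_cj_of_sigma_sigma_nilpotent hG hM hH hnil hqM hqH
      have h1 : PRankLE p 1 ↥(cj g⁻¹ M) := prankLE_cj g⁻¹ hp.2.2.2.2
      rw [hg, cj_inv_cj] at h1
      exact hr1 h1
    by_cases hrH : Nat.card R ∈ sigma H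
    · have hRH' : R ≤ ⁅H, H⁆ :=
        (pgroup_le_sigmaCore hG hH hrH hRp hRH).trans (sigmaCore_le_comm hG hH)
      have hcop : (Nat.card R).Coprime (Nat.card Y) := coprime_of_sigma hG hrM hRp hYM
      exact sigArg hG h14 hM hH hrH hrM hRH' hYM hYH hRNY hcop
    · have hPNY : P ≤ Subgroup.normalizer (Y : Set G) :=
        le_normalizer_inf_centralizer (hPM.trans (le_normalizer_map_subtype M _))
          Subgroup.le_normalizer
      have hc1 : (Nat.card ↥(Y ⊔ P)).Coprime (Nat.card (sigmaCore H)) := by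
        refine coprime_card_sup hPNY ?_ ?_
        · refine Nat.coprime_of_dvd ?_
          intro q hq hq1 hq2
          exact hdisj q hq
            (mem_sigma_of_dvd_sigmaCore hq (hq1.trans (Subgroup.card_dvd_of_le hYM)))
            (mem_sigma_of_dvd_sigmaCore hq hq2)
        · exact coprime_of_sigma hG hpH hPp le_rfl
      have hRN2 : R ≤ Subgroup.normalizer ((Y ⊔ P : Subgroup G) : Set G) :=
        red_normalizer_sup hRNY hRNP
      have hc2 : (Nat.card ↥(Y ⊔ P ⊔ R)).Coprime (Nat.card (sigmaCore H)) :=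
        coprime_card_sup hRN2 hc1 (coprime_of_sigma hG hrH hRp le_rfl)
      obtain ⟨E₁, hE₁, hWE⟩ := exists_compl_ge hG hH (sup_le (sup_le hYH hPH) hRH) hc2
      obtain ⟨A, hAE, hAel, hAc⟩ := exists_tau2_elemAb hG hH hE₁ hτ
      have hEA := (h18 H hH E₁ hE₁ p hτ A ⟨hAE, hAel, hAc⟩).1.1
      have hA1 : A ≠ ⊥ := by
        rintro rfl
        rw [Subgroup.card_bot] at hAc
        exact (Nat.one_lt_pow (by norm_num) hpp.one_lt).ne hAc
      have hAtop : A ≠ ⊤ := by
        rintro rfl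
        exact hH.1 (top_le_iff.mp (hAE.trans hE₁.1))
      obtain ⟨L, hL, hNL⟩ := exists_coatom_ge (minSimple_normalizer_ne_top hG hA1 hAtop)
      have hpL : p ∈ sigma L := mem_sigma_of_normalizer_elemAb_le hG h18 hL hAel hAc hNL
      have hWL : Y ⊔ P ⊔ R ≤ L := (hWE.trans hEA).trans hNL
      exact h1 hG M L hM hL p hp hpL P hPM ((le_sup_right.trans le_sup_left).trans hWL) hP
        (Nat.card R) R hRM (le_sup_right.trans hWL) hRP rfl hrM Y hYM
        ((le_sup_left.trans le_sup_left).trans hWL) hRNY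

end Cfsg.Agent.Lib.Helper15.BG13C
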