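import Mathlib

set_option autoImplicit false

namespace Cfsg.Agent.Lib.Helper13

open scoped commutatorElement

/-- Every nontrivial normal subgroup of a finite group contains a minimal normal subgroup. -/
theorem exists_minimal_normal_le {G : Type*} [Group G] [Finite G] (H : Subgroup G)
    (hHn : H.Normal) (hH : H ≠ ⊥) :
    ∃ N : Subgroup G, N ≤ H ∧ N.Normal ∧ N ≠ ⊥ ∧
      ∀ K : Subgroup G, K.Normal → K ≤ N → K = ⊥ ∨ K = N := by
  obtain ⟨K, hKle, hKmin⟩ := Finite.exists_le_minimal
    (p := fun K : Subgroup G => K.Normal ∧ K ≠ ⊥) (a := H) ⟨hHn, hH⟩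
  refine ⟨K, hKle, hKmin.1.1, hKmin.1.2, ?_⟩
  intro K' hK'n hK'le
  by_cases hK'b : K' = ⊥
  · exact Or.inl hK'b
  · exact Or.inr (le_antisymm hK'le (hKmin.2 ⟨hK'n, hK'b⟩ hK'le))

/-- A solvable minimal normal subgroup is abelian. -/
theorem minimal_normal_comm {G : Type*} [Group G] (N : Subgroup G) (hNn : N.Normal)
    [hsol : Group.IsSolvable ↥N]
    (hmin : ∀ K : Subgroup G, K.Normal → K ≤ N → K = ⊥ ∨ K = N) :
    ∀ a ∈ N, ∀ b ∈ N, a * b = b * a := by
  haveI := hNn
  have hcn : (⁅N, N⁆ : Subgroup G).Normal := Subgroup.commutator_normal N N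
  have hle : ⁅N, N⁆ ≤ N := Subgroup.commutator_le_left N N
  rcases hmin _ hcn hle with h | h
  · intro a ha b hb
    have h1 : ⁅a, b⁆ ∈ ⁅N, N⁆ := Subgroup.commutator_mem_commutator ha hb
    rw [h, Subgroup.mem_bot, commutatorElement_eq_one_iff_commute] at h1
    exact h1
  · have hall : ∀ k, (derivedSeries ↥N k).map N.subtype = N := by
      intro k
      induction k with
      | zero => rw [derivedSeries_zero, ← MonoidHom.range_eq_map, Subgroup.range_subtype]
      | succ k ih =>
        rw [derivedSeries_succ, Subgroup.map_commutator, ih, h]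
    obtain ⟨n, hn⟩ := hsol.solvable
    have h2 := hall n
    rw [hn, Subgroup.map_bot] at h2
    intro a ha b hb
    rw [← h2, Subgroup.mem_bot] at ha hb
    rw [ha, hb]

/-- A subgroup of exponent `p` is a `p`-group. -/
theorem isPGroup_of_exponent {G : Type*} [Group G] (p : ℕ) (N : Subgroup G)
    (h : ∀ a ∈ N, a ^ p = 1) : IsPGroup p ↥N := by
  intro g
  refine ⟨1, ?_⟩
  rw [pow_one]
  exact Subtype.ext (by rw [Subgroup.coe_pow, h g.1 g.2, Subgroup.coe_one])

/-- An abelian minimal normal subgroup of a finite group has prime exponent. -/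
theorem minimal_normal_exponent {G : Type*} [Group G] [Finite G] (N : Subgroup G) (hNn : N.Normal)
    (hN : N ≠ ⊥) (hcomm : ∀ a ∈ N, ∀ b ∈ N, a * b = b * a)
    (hmin : ∀ K : Subgroup G, K.Normal → K ≤ N → K = ⊥ ∨ K = N) :
    ∃ p : ℕ, p.Prime ∧ p ∣ Nat.card ↥N ∧ ∀ a ∈ N, a ^ p = 1 := by
  have hcard : Nat.card ↥N ≠ 1 := fun h => hN (Subgroup.card_eq_one.mp h)
  obtain ⟨p, hp, hdvd⟩ := Nat.exists_prime_and_dvd hcard
  haveI : Fact p.Prime := ⟨hp⟩
  refine ⟨p, hp, hdvd, ?_⟩
  let E : Subgroup G :=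
    { carrier := {x | x ∈ N ∧ x ^ p = 1}
      mul_mem' := by
        rintro a b ⟨ha, ha'⟩ ⟨hb, hb'⟩
        refine ⟨N.mul_mem ha hb, ?_⟩
        have hc : Commute a b := hcomm a ha b hb
        rw [hc.mul_pow, ha', hb', one_mul]
      one_mem' := ⟨N.one_mem, one_pow _⟩
      inv_mem' := by
        rintro a ⟨ha, ha'⟩
        exact ⟨N.inv_mem ha, by rw [inv_pow, ha', inv_one]⟩ }
  have hEn : E.Normal := by
    constructor
    rintro x ⟨hx, hx'⟩ g
    refine ⟨hNn.conj_mem x hx g, ?_⟩
    rw [conj_pow, hx']; group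
  have hEL : E ≤ N := fun x hx => hx.1
  have hEne : E ≠ ⊥ := by
    obtain ⟨x, hx⟩ := exists_prime_orderOf_dvd_card' (G := ↥N) p hdvd
    intro h
    have hxp : x ^ p = 1 := by
      have := pow_orderOf_eq_one x
      rwa [hx] at this
    have hxE : (x : G) ∈ E := ⟨x.2, by rw [← Subgroup.coe_pow, hxp, Subgroup.coe_one]⟩
    rw [h, Subgroup.mem_bot] at hxE
    have hx1 : x = 1 := Subtype.ext hxE
    rw [hx1, orderOf_one] at hx
    exact hp.one_lt.ne hx
  rcases hmin E hEn hEL with h | h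
  · exact absurd h hEne
  · intro a ha
    have : a ∈ E := by rw [h]; exact ha
    exact this.2

/-- A solvable minimal normal subgroup of a finite group is an elementary abelian `p`-group. -/
theorem minimal_normal_solvable {G : Type*} [Group G] [Finite G] (N : Subgroup G) (hNn : N.Normal)
    (hN : N ≠ ⊥) [hsol : Group.IsSolvable ↥N]
    (hmin : ∀ K : Subgroup G, K.Normal → K ≤ N → K = ⊥ ∨ K = N) :
    ∃ p : ℕ, p.Prime ∧ p ∣ Nat.card ↥N ∧ (∀ a ∈ N, ∀ b ∈ N, a * b = b * a) ∧
      (∀ a ∈ N, a ^ p = 1) ∧ IsPGroup p ↥N := by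
  have hcomm := minimal_normal_comm N hNn hmin
  obtain ⟨p, hp, hdvd, hexp⟩ := minimal_normal_exponent N hNn hN hcomm hmin
  exact ⟨p, hp, hdvd, hcomm, hexp, isPGroup_of_exponent p N hexp⟩

/-- The preimage of a maximal subgroup under a surjective homomorphism is maximal. -/
theorem isCoatom_comap_of_surjective {G H : Type*} [Group G] [Group H] (f : G →* H)
    (hf : Function.Surjective f) (M : Subgroup H) (hM : IsCoatom M) : IsCoatom (M.comap f) := by
  constructor
  · intro h
    apply hM.1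
    have := congrArg (Subgroup.map f) h
    rw [Subgroup.map_comap_eq_self_of_surjective hf, Subgroup.map_top_of_surjective f hf] at this
    exact this
  · intro K hK
    have hker : f.ker ≤ K := le_trans (Subgroup.ker_le_comap f M) hK.le
    have hKeq : (K.map f).comap f = K := by
      rw [Subgroup.comap_map_eq]
      exact sup_eq_left.mpr hker
    have hlt : M < K.map f := by
      apply lt_of_le_of_ne
      · have := Subgroup.map_mono (f := f) hK.le
        rwa [Subgroup.map_comap_eq_self_of_surjective hf] at this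
      · intro heq
        rw [← heq] at hKeq
        exact hK.ne hKeq
    have := hM.2 _ hlt
    rw [← hKeq, this, Subgroup.comap_top]

/-- A normal subgroup not contained in a maximal subgroup supplements it. -/
theorem sup_eq_top_of_isCoatom_of_not_le {G : Type*} [Group G] (K M : Subgroup G)
    (hM : IsCoatom M) (hK : ¬ K ≤ M) : K ⊔ M = ⊤ := by
  apply hM.2
  apply lt_of_le_of_ne le_sup_right
  intro heq
  apply hK
  rw [heq]
  exact le_sup_left

/-- Element-wise decomposition in a product `N M = G` with `N` normal. -/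
theorem exists_mul_of_sup_eq_top {G : Type*} [Group G] (N M : Subgroup G) [N.Normal]
    (h : N ⊔ M = ⊤) (g : G) : ∃ n ∈ N, ∃ m ∈ M, n * m = g := by
  have hg : g ∈ N ⊔ M := h ▸ Subgroup.mem_top g
  rw [Subgroup.mem_sup_of_normal_left] at hg
  exact hg

/-- If `N` is an abelian normal subgroup and `N M = G`, then `N ⊓ M` is normal in `G`. -/
theorem inf_normal_of_comm_of_sup_eq_top {G : Type*} [Group G] (N M : Subgroup G) (hNn : N.Normal)
    (hcomm : ∀ a ∈ N, ∀ b ∈ N, a * b = b * a) (h : N ⊔ M = ⊤) : (N ⊓ M).Normal := by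
  haveI := hNn
  constructor
  intro x hx g
  obtain ⟨n, hn, m, hm, rfl⟩ := exists_mul_of_sup_eq_top N M h g
  obtain ⟨hxN, hxM⟩ := Subgroup.mem_inf.mp hx
  have h1 : m * x * m⁻¹ ∈ N ⊓ M := Subgroup.mem_inf.mpr
    ⟨hNn.conj_mem x hxN m, M.mul_mem (M.mul_mem hm hxM) (M.inv_mem hm)⟩
  have h2 : n * m * x * (n * m)⁻¹ = m * x * m⁻¹ := by
    have h3 : n * (m * x * m⁻¹) = (m * x * m⁻¹) * n :=
      hcomm n hn (m * x * m⁻¹) (Subgroup.mem_inf.mp h1).1
    calc n * m * x * (n * m)⁻¹ = n * (m * x * m⁻¹) * n⁻¹ := by group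
      _ = (m * x * m⁻¹) * n * n⁻¹ := by rw [h3]
      _ = m * x * m⁻¹ := by group
  rw [h2]; exact h1

/-- An abelian minimal normal subgroup not contained in a maximal subgroup `M` is complemented
by `M`. -/
theorem isComplement'_of_minimal_normal_of_isCoatom {G : Type*} [Group G] (N M : Subgroup G)
    (hNn : N.Normal) (hcomm : ∀ a ∈ N, ∀ b ∈ N, a * b = b * a)
    (hmin : ∀ K : Subgroup G, K.Normal → K ≤ N → K = ⊥ ∨ K = N)
    (hM : IsCoatom M) (hNM : ¬ N ≤ M) : Subgroup.IsComplement' N M := by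
  haveI := hNn
  have htop := sup_eq_top_of_isCoatom_of_not_le N M hM hNM
  have hinf : N ⊓ M = ⊥ := by
    rcases hmin _ (inf_normal_of_comm_of_sup_eq_top N M hNn hcomm htop) inf_le_left with h | h
    · exact h
    · exact absurd (inf_eq_left.mp h) hNM
  apply Subgroup.isComplement'_of_disjoint_and_mul_eq_univ
  · exact disjoint_iff.mpr hinf
  · rw [← Subgroup.normal_mul, htop]; rfl

end Cfsg.Agent.Lib.Helper13
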