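import Mathlib

/-! Project EP (helper7) = S5746, piece COATOM (proved by helper13): a point stabiliser is maximal
when no proper union of suborbits has a size dividing the degree. -/

set_option autoImplicit false

namespace Cfsg.Agent.Lib.Helper7.EP

theorem EPCOATOM_cnt {Y : Type*} [Group Y] {n : ℕ} (σ : Y →* Equiv.Perm (Fin n)) (ω : Fin n) :
    ((MulAction.stabilizer (Equiv.Perm (Fin n)) ω).comap σ).index =
      (Set.range (fun y : Y => σ y ω)).ncard := by
  letI : MulAction Y (Fin n) := MulAction.compHom (Fin n) σ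
  have h1 : MulAction.stabilizer Y ω = (MulAction.stabilizer (Equiv.Perm (Fin n)) ω).comap σ := by
    ext y
    rfl
  have h2 : MulAction.orbit Y ω = Set.range (fun y : Y => σ y ω) := rfl
  rw [← h1, MulAction.index_stabilizer, h2]

/-- COATOM: a point stabiliser is maximal when no proper union of suborbits has a size dividing
the degree.  `c` labels the points; the labels `< r` are the orbit of `ω` under `X`, and the points
of equal label `< r` are the orbits of `L ≤ Stab(ω)`. -/
theorem EPCOATOM {X : Type*} [Group X] [Finite X] {n : ℕ} (ρ : X →* Equiv.Perm (Fin n)) (ω : Fin n)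
    (r : ℕ) (c : Fin n → ℕ) (L : Subgroup X)
    (hLfix : ∀ l ∈ L, ρ l ω = ω)
    (hOrb : ∀ i : Fin n, c i < r ↔ ∃ x : X, ρ x ω = i)
    (hconn : ∀ i j : Fin n, c i < r → c i = c j → ∃ l ∈ L, ρ l i = j)
    (harith : ∀ J ∈ (Finset.range r).powerset,
      (∑ k ∈ J, (Finset.univ.filter (fun i : Fin n => c i = k)).card) ∣
        (Finset.univ.filter (fun i : Fin n => c i < r)).card →
      1 < ∑ k ∈ J, (Finset.univ.filter (fun i : Fin n => c i = k)).card →
      ∑ k ∈ J, (Finset.univ.filter (fun i : Fin n => c i = k)).card =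
        (Finset.univ.filter (fun i : Fin n => c i < r)).card)
    (hnt : ∃ x : X, ρ x ω ≠ ω) :
    IsCoatom ((MulAction.stabilizer (Equiv.Perm (Fin n)) ω).comap ρ) := by
  classical
  have hmemS : ∀ x : X, x ∈ (MulAction.stabilizer (Equiv.Perm (Fin n)) ω).comap ρ ↔ ρ x ω = ω :=
    fun x => Iff.rfl
  refine ⟨?_, ?_⟩
  · intro htop
    obtain ⟨x, hx⟩ := hnt
    exact hx ((hmemS x).mp (by rw [htop]; exact Subgroup.mem_top x))
  · intro M hSM
    have hSleM : (MulAction.stabilizer (Equiv.Perm (Fin n)) ω).comap ρ ≤ M := hSM.le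
    obtain ⟨m₀, hm₀M, hm₀S⟩ := SetLike.exists_of_lt hSM
    have hO : Set.range (fun x : X => ρ x ω) =
        ↑(Finset.univ.filter (fun i : Fin n => c i < r)) := by
      ext i
      simp only [Set.mem_range, Finset.coe_filter, Finset.mem_univ, true_and, Set.mem_setOf_eq]
      exact (hOrb i).symm
    let Bf : Finset (Fin n) := Finset.univ.filter (fun i => ∃ m ∈ M, ρ m ω = i)
    have hBmem : ∀ i, i ∈ Bf ↔ ∃ m ∈ M, ρ m ω = i := by
      intro i
      simp only [Bf, Finset.mem_filter, Finset.mem_univ, true_and]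
    have hB : Set.range (fun m : M => (ρ.comp M.subtype) m ω) = ↑Bf := by
      ext i
      rw [Finset.mem_coe, hBmem]
      simp only [Set.mem_range, MonoidHom.comp_apply, Subgroup.coe_subtype]
      constructor
      · rintro ⟨m, rfl⟩
        exact ⟨m.1, m.2, rfl⟩
      · rintro ⟨m, hm, rfl⟩
        exact ⟨⟨m, hm⟩, rfl⟩
    have h1 := EPCOATOM_cnt ρ ω
    have h2 := EPCOATOM_cnt (ρ.comp M.subtype) ω
    have h3 : ((MulAction.stabilizer (Equiv.Perm (Fin n)) ω).comap (ρ.comp M.subtype)).index =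
        ((MulAction.stabilizer (Equiv.Perm (Fin n)) ω).comap ρ).relIndex M := rfl
    have hdvd : Bf.card ∣ (Finset.univ.filter (fun i : Fin n => c i < r)).card := by
      have h4 := Subgroup.relIndex_dvd_index_of_le hSleM
      rw [← h3, h2, h1, hB, hO, Set.ncard_coe_finset, Set.ncard_coe_finset] at h4
      exact h4
    let J : Finset ℕ := Bf.image c
    have hJr : J ∈ (Finset.range r).powerset := by
      rw [Finset.mem_powerset]
      intro k hk
      obtain ⟨i, hi, rfl⟩ := Finset.mem_image.mp hk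
      obtain ⟨m, hm, rfl⟩ := (hBmem i).mp hi
      exact Finset.mem_range.mpr ((hOrb _).mpr ⟨m, rfl⟩)
    have hLM : ∀ l ∈ L, l ∈ M := fun l hl => hSleM ((hmemS l).mpr (hLfix l hl))
    have hfib : ∀ k ∈ J, Bf.filter (fun i => c i = k) =
        Finset.univ.filter (fun i : Fin n => c i = k) := by
      intro k hk
      obtain ⟨i₀, hi₀, rfl⟩ := Finset.mem_image.mp hk
      obtain ⟨m, hm, rfl⟩ := (hBmem i₀).mp hi₀
      ext i
      simp only [Finset.mem_filter, Finset.mem_univ, true_and]
      constructor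
      · exact fun h => h.2
      · intro hci
        refine ⟨?_, hci⟩
        obtain ⟨l, hl, hli⟩ := hconn (ρ m ω) i ((hOrb _).mpr ⟨m, rfl⟩) hci.symm
        rw [hBmem]
        refine ⟨l * m, M.mul_mem (hLM l hl) hm, ?_⟩
        rw [map_mul, Equiv.Perm.mul_apply, hli]
    have hsum : ∑ k ∈ J, (Finset.univ.filter (fun i : Fin n => c i = k)).card = Bf.card := by
      rw [Finset.card_eq_sum_card_fiberwise (f := c) (t := J)
        (fun i hi => Finset.mem_image_of_mem c hi)]
      exact Finset.sum_congr rfl (fun k hk => by rw [hfib k hk])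
    have hgt : 1 < Bf.card := by
      rw [Finset.one_lt_card]
      refine ⟨ω, ?_, ρ m₀ ω, ?_, ?_⟩
      · exact (hBmem _).mpr ⟨1, M.one_mem, by simp⟩
      · exact (hBmem _).mpr ⟨m₀, hm₀M, rfl⟩
      · intro h
        exact hm₀S ((hmemS m₀).mpr h.symm)
    have heq := harith J hJr (by rw [hsum]; exact hdvd) (by rw [hsum]; exact hgt)
    rw [hsum] at heq
    have hBO : Bf = Finset.univ.filter (fun i : Fin n => c i < r) := by
      apply Finset.eq_of_subset_of_card_le
      · intro i hi
        obtain ⟨m, hm, rfl⟩ := (hBmem i).mp hi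
        exact Finset.mem_filter.mpr ⟨Finset.mem_univ _, (hOrb _).mpr ⟨m, rfl⟩⟩
      · exact heq.ge
    rw [eq_top_iff]
    intro x _
    have hx : ρ x ω ∈ Bf := by
      rw [hBO]
      exact Finset.mem_filter.mpr ⟨Finset.mem_univ _, (hOrb _).mpr ⟨x, rfl⟩⟩
    obtain ⟨m, hm, hmx⟩ := (hBmem _).mp hx
    have h5 : m⁻¹ * x ∈ (MulAction.stabilizer (Equiv.Perm (Fin n)) ω).comap ρ := by
      rw [hmemS, map_mul, Equiv.Perm.mul_apply, ← hmx, ← Equiv.Perm.mul_apply, ← map_mul,
        inv_mul_cancel, map_one, Equiv.Perm.one_apply]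
    have h6 := M.mul_mem hm (hSleM h5)
    rwa [mul_inv_cancel_left] at h6

end Cfsg.Agent.Lib.Helper7.EP
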