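import Mathlib
import Cfsg.Prelude.Def_Characters
import Cfsg.Agent.Lib.Helper22.PTDefs
import Cfsg.Agent.Lib.Helper57.BFFourier
import Cfsg.Agent.Lib.Helper40.BFCASEA2
import Cfsg.Agent.Lib.Helper68.BFPDEC
import Cfsg.Agent.Lib.Helper37.PTBLKY
import Cfsg.Agent.Lib.Helper80.Twisted
import Cfsg.Agent.Lib.Helper80.Galois
import Cfsg.Agent.Lib.Helper83.IrrBasic

/-!
# S4705 project PT (helper22), piece EXACT (backup proof by helper13)

The values of `ζ` on the powers of `z`: `ζ (z ^ t) = -(w ^ (u t) + w ^ (-(u t)))` for `t ≠ 0`.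
-/

set_option autoImplicit false

namespace Cfsg.Agent.Lib.Helper13.PT

open Cfsg Cfsg.Agent.Lib.Helper22.BFD Cfsg.Agent.Lib.Helper22.PT
open scoped ComplexConjugate

universe u

/-- a function on a finite commutative group invariant under a subgroup `H` has sum divisible
by `|H|` -/
theorem exact_card_dvd_sum {A : Type*} [CommGroup A] [Fintype A] (H : Subgroup A) (B : A → ℕ)
    (hB : ∀ h ∈ H, ∀ a, B (h * a) = B a) : Nat.card H ∣ ∑ a, B a := by
  classical
  rw [← Finset.sum_fiberwise Finset.univ (fun a : A => (QuotientGroup.mk a : A ⧸ H)) B]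
  apply Finset.dvd_sum
  intro q _
  have e2 : ∀ a ∈ Finset.univ.filter (fun a : A => (QuotientGroup.mk a : A ⧸ H) = q),
      B a = B q.out := by
    intro a ha
    rw [Finset.mem_filter] at ha
    have h1 : (QuotientGroup.mk a : A ⧸ H) = QuotientGroup.mk q.out := by
      rw [ha.2, QuotientGroup.out_eq']
    rw [QuotientGroup.eq] at h1
    have h2 := hB _ h1 a
    rw [mul_comm, mul_inv_cancel_left] at h2
    exact h2.symm
  rw [Finset.sum_congr rfl e2, Finset.sum_const, smul_eq_mul]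
  apply Dvd.dvd.mul_right
  have e3 : (Finset.univ.filter (fun a : A => (QuotientGroup.mk a : A ⧸ H) = q)).card =
      Nat.card H := by
    have h3 := QuotientGroup.card_preimage_mk H ({q} : Set (A ⧸ H))
    rw [Nat.card_coe_set_eq ({q} : Set (A ⧸ H)), Set.ncard_singleton, mul_one] at h3
    rw [← h3, Nat.card_coe_set_eq, Set.ncard_eq_toFinset_card']
    congr 1
    ext a
    simp
  rw [e3]

/-- powers with exponents in `ZMod p` -/
theorem exact_pow_val_add {M : Type*} [Monoid M] (p : ℕ) [Fact p.Prime] (x : M) (hx : x ^ p = 1)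
    (a b : ZMod p) : x ^ (a + b).val = x ^ a.val * x ^ b.val := by
  rw [← pow_add, ZMod.val_add, ← pow_eq_pow_mod _ hx]

/-- sums over the units and over all residues -/
theorem exact_units_sum (p : ℕ) [Fact p.Prime] (c : ZMod p → ℂ) :
    ∑ k : (ZMod p)ˣ, c (k : ZMod p) + c 0 = ∑ t : ZMod p, c t := by
  have e := Cfsg.Agent.Lib.BF.bfF_sum_units_mul
    (fun t : ZMod p => if t = 0 then (0 : ℂ) else c t) (if_pos rfl) 1 one_ne_zero
  have e1 : ∀ t : ZMod p, c t = (if t = 0 then c t else 0) + (if t = 0 then (0 : ℂ) else c t) := by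
    intro t
    split_ifs <;> simp
  rw [Finset.sum_congr rfl (fun t _ => e1 t), Finset.sum_add_distrib, Finset.sum_ite_eq',
    if_pos (Finset.mem_univ _), ← e, add_comm]
  congr 1
  refine Finset.sum_congr rfl ?_
  intro k _
  rw [mul_one, if_neg k.ne_zero]

theorem exact_units_sum_real (p : ℕ) [Fact p.Prime] (c : ZMod p → ℝ) :
    ∑ k : (ZMod p)ˣ, c (k : ZMod p) + c 0 = ∑ t : ZMod p, c t := by
  have e := exact_units_sum p (fun t => (c t : ℂ))
  apply Complex.ofReal_injective
  push_cast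
  exact e

variable {G : Type u} [Group G] [Fintype G]

/-- PIECE EXACT -/
theorem exact [Fintype (IrrCharacter G)] (p : ℕ) [Fact p.Prime] (w : ℂ)
    (hw : IsPrimitiveRoot w p) (z : G) (ζ : G → ℂ) (h : Hyp G p z ζ) (hl : Loc G p z ζ)
    (htw : TwCol p z (cz ζ)) (hg : GExp G p) :
    ∃ u : ZMod p, u ≠ 0 ∧ ∀ t : ZMod p, t ≠ 0 → ζ (z ^ t.val) = -ev p w u t := by
  classical
  have hp : p.Prime := Fact.out
  have hp5 : 5 < p := h.p5
  have hp0 : (p : ℂ) ≠ 0 := by exact_mod_cast hp.ne_zero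
  have hzp : z ^ p = 1 := by
    rw [← h.ord]
    exact pow_orderOf_eq_one z
  have hchar : IsCharacter G ζ := by
    obtain ⟨n, ρ, -, hρ⟩ := h.irr
    exact ⟨n, ρ, hρ⟩
  obtain ⟨b, hb⟩ := Cfsg.Agent.Lib.Helper68.BFT.pdec p w hw ζ hchar z hzp
  have h1v : (1 : ZMod p).val = 1 := ZMod.val_one p
  have h2v : (2 : ZMod p).val = 2 := by
    rw [show (2 : ZMod p) = ((2 : ℕ) : ZMod p) by norm_cast, ZMod.val_natCast,
      Nat.mod_eq_of_lt (by omega)]
  have h20 : (2 : ZMod p) ≠ 0 := by
    intro h0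
    rw [h0, ZMod.val_zero] at h2v
    omega
  -- (F1) the sum of the `b v`
  have hsumb : ∑ v : ZMod p, (b v : ℂ) = (p : ℂ) - 2 := by
    have e := hb 0
    rw [ZMod.val_zero, pow_zero, h.deg] at e
    rw [e]
    refine Finset.sum_congr rfl ?_
    intro v _
    rw [mul_zero, ZMod.val_zero, pow_zero, mul_one]
  have hsumbN : ∑ v : ZMod p, b v + 2 = p := by
    have : ((∑ v : ZMod p, b v + 2 : ℕ) : ℂ) = (p : ℂ) := by
      push_cast
      rw [hsumb]
      ring
    exact_mod_cast this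
  -- (F2) `b 0 = 1`
  have hb0 : b 0 = 1 := by
    have e := hl.fix
    rw [Finset.sum_congr rfl (fun t _ => hb t), Finset.sum_comm] at e
    have e2 : ∀ v : ZMod p, ∑ t : ZMod p, (b v : ℂ) * w ^ (v * t).val =
        if v = 0 then (b v : ℂ) * p else 0 := by
      intro v
      rw [← Finset.mul_sum, Cfsg.Agent.Lib.Helper40.BFT.sum_zeta_pow p w hw v]
      split_ifs <;> simp
    rw [Finset.sum_congr rfl (fun v _ => e2 v), Finset.sum_ite_eq',
      if_pos (Finset.mem_univ _)] at e
    have e3 : (b 0 : ℂ) = 1 := mul_right_cancel₀ hp0 (e.trans (one_mul _).symm)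
    exact_mod_cast e3
  -- (F3) `b (-v) = b v`
  have hbneg : ∀ v : ZMod p, b (-v) = b v := by
    obtain ⟨n, hn⟩ := hl.inv
    have e1 : ζ (z ^ (-1 : ZMod p).val) = ζ (z ^ (1 : ZMod p).val) := by
      have hz1 : z ^ (-1 : ZMod p).val = n * z ^ (1 : ZMod p).val * n⁻¹ := by
        rw [h1v, pow_one, hn]
        have e0 := exact_pow_val_add p z hzp (-1) 1
        rw [neg_add_cancel, ZMod.val_zero, pow_zero, h1v, pow_one] at e0
        exact eq_inv_of_mul_eq_one_left e0.symm
      rw [hz1]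
      exact Cfsg.Agent.Lib.Helper83.irr_classFunction h.irr _ _
    rw [hb, hb] at e1
    have e2 : ∑ v : ZMod p, (b v : ℂ) * w ^ (v * -1).val =
        ∑ v : ZMod p, (b (-v) : ℂ) * w ^ v.val := by
      refine Fintype.sum_equiv (Equiv.neg _) _ _ ?_
      intro v
      simp only [Equiv.neg_apply, neg_neg, mul_neg, mul_one]
    have e3 : ∑ v : ZMod p, (b v : ℂ) * w ^ (v * 1).val = ∑ v : ZMod p, (b v : ℂ) * w ^ v.val := by
      simp only [mul_one]
    rw [e2, e3] at e1
    have e4 : ∑ v : ZMod p, (((b (-v) : ℤ) - (b v : ℤ) : ℤ) : ℂ) * w ^ v.val = 0 := by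
      push_cast
      simp only [sub_mul]
      rw [Finset.sum_sub_distrib, e1, sub_self]
    intro v
    have e5 := Cfsg.Agent.Lib.BF.bfF_const_of_sum_pow_eq_zero w hw
      (fun v => (b (-v) : ℤ) - (b v : ℤ)) e4 v 0
    simp only [neg_zero, sub_self] at e5
    have e6 : (b (-v) : ℤ) = b v := by linarith
    exact_mod_cast e6
  -- (F4) the Galois conjugates of `ζ`
  have hreg := Cfsg.Agent.Lib.Helper37.PT.blky_zreg p z h.ord h.sq h.nn
  have hzc : ∀ c ∈ Subgroup.center G, ∀ g : G, ζ (c * g) = cz ζ c * ζ g := by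
    intro c hc g
    have h1 := Cfsg.Agent.Lib.Helper80.irr_mul_central (⟨ζ, h.irr⟩ : IrrCharacter G) hc g
    have h2 : g * c = c * g := Subgroup.mem_center_iff.mp hc g
    rw [← h2]
    exact h1
  choose m hm1 hm2 hm3 using hg
  obtain ⟨Yk, hYk⟩ : ∃ Yk : (ZMod p)ˣ → IrrCharacter G, ∀ k, (Yk k).1 = fun g => ζ (g ^ m k) :=
    ⟨fun k => ⟨fun g => ζ (g ^ m k),
      Cfsg.Agent.Lib.Helper80.isIrrCharacter_pow_coprime (m k) (hm1 k) ⟨ζ, h.irr⟩⟩, fun k => rfl⟩
  have hYzc : ∀ k, ZC (cz ζ) (Yk k).1 := by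
    intro k c hc g
    rw [hYk]
    show ζ ((c * g) ^ m k) = cz ζ c * ζ (g ^ m k)
    have hcg : Commute c g := (Subgroup.mem_center_iff.mp hc g).symm
    rw [hcg.mul_pow, hm3 k c (hreg c hc), hzc c hc]
  have hYz : ∀ k : (ZMod p)ˣ, (Yk k).1 (z ^ (1 : ZMod p).val) = ζ (z ^ (k : ZMod p).val) := by
    intro k
    rw [hYk]
    show ζ ((z ^ (1 : ZMod p).val) ^ m k) = _
    rw [Cfsg.Agent.Lib.Helper37.PT.blky_zpow p z h.ord, hm2 k, one_mul]
  -- (F5) the stabilizer of `b`
  obtain ⟨S, hS⟩ : ∃ S : Subgroup (ZMod p)ˣ, ∀ s : (ZMod p)ˣ,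
      s ∈ S ↔ ∀ v : ZMod p, b ((s : ZMod p) * v) = b v := by
    refine ⟨{ carrier := {s | ∀ v : ZMod p, b ((s : ZMod p) * v) = b v}
              mul_mem' := ?_
              one_mem' := ?_
              inv_mem' := ?_ }, fun s => Iff.rfl⟩
    · intro s s' hs hs' v
      rw [Units.val_mul, mul_assoc, hs, hs']
    · intro v
      rw [Units.val_one, one_mul]
    · intro s hs v
      have e := hs (((s⁻¹ : (ZMod p)ˣ) : ZMod p) * v)
      rw [← mul_assoc, ← Units.val_mul, mul_inv_cancel, Units.val_one, one_mul] at e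
      exact e.symm
  have hsumunits : ∑ k : (ZMod p)ˣ, b (k : ZMod p) + 3 = p := by
    have e := exact_units_sum p (fun t => (b t : ℂ))
    rw [hsumb, hb0] at e
    have : ((∑ k : (ZMod p)ˣ, b (k : ZMod p) + 3 : ℕ) : ℂ) = (p : ℂ) := by
      push_cast
      linear_combination e
    exact_mod_cast this
  have hScard : Nat.card S ∣ 2 := by
    have d1 : Nat.card S ∣ p - 1 := by
      have := Subgroup.card_subgroup_dvd_card S
      rwa [Nat.card_eq_fintype_card (α := (ZMod p)ˣ), ZMod.card_units p] at this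
    have d2 : Nat.card S ∣ ∑ k : (ZMod p)ˣ, b (k : ZMod p) := by
      refine exact_card_dvd_sum S (fun k => b (k : ZMod p)) ?_
      intro s hs a
      show b ((s * a : (ZMod p)ˣ) : ZMod p) = b (a : ZMod p)
      rw [Units.val_mul]
      exact (hS s).1 hs _
    have d3 := Nat.dvd_sub d1 d2
    have e : p - 1 - ∑ k : (ZMod p)ˣ, b (k : ZMod p) = 2 := by omega
    rwa [e] at d3
  have hS2 : ∀ s ∈ S, s = 1 ∨ s = -1 := by
    intro s hs
    have d := (Subgroup.orderOf_dvd_natCard S hs).trans hScard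
    have e := orderOf_dvd_iff_pow_eq_one.mp d
    have e2 : (s : ZMod p) * (s : ZMod p) = 1 := by
      rw [← Units.val_mul, ← pow_two, e, Units.val_one]
    rcases mul_self_eq_one_iff.mp e2 with h' | h'
    · left
      exact Units.ext h'
    · right
      apply Units.ext
      rw [Units.val_neg, Units.val_one]
      exact h'
  have hfib : ∀ k k' : (ZMod p)ˣ, Yk k = Yk k' → k' = k ∨ k' = -k := by
    intro k k' hkk
    have e1 : ζ (z ^ (k : ZMod p).val) = ζ (z ^ (k' : ZMod p).val) := by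
      rw [← hYz k, ← hYz k', hkk]
    rw [hb, hb] at e1
    have re : ∀ l : (ZMod p)ˣ, ∑ v : ZMod p, (b v : ℂ) * w ^ (v * (l : ZMod p)).val =
        ∑ v : ZMod p, (b (v * ((l⁻¹ : (ZMod p)ˣ) : ZMod p)) : ℂ) * w ^ v.val := by
      intro l
      refine Fintype.sum_equiv (Equiv.mulRight₀ (l : ZMod p) l.ne_zero) _ _ ?_
      intro v
      simp only [Equiv.mulRight₀_apply, Units.mul_inv_cancel_right]
    rw [re k, re k'] at e1
    have e4 : ∑ v : ZMod p, (((b (v * ((k⁻¹ : (ZMod p)ˣ) : ZMod p)) : ℤ) -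
        (b (v * ((k'⁻¹ : (ZMod p)ˣ) : ZMod p)) : ℤ) : ℤ) : ℂ) * w ^ v.val = 0 := by
      simp only [Int.cast_sub, Int.cast_natCast, sub_mul]
      rw [Finset.sum_sub_distrib, e1, sub_self]
    have e5 : ∀ v : ZMod p, b (v * ((k⁻¹ : (ZMod p)ˣ) : ZMod p)) =
        b (v * ((k'⁻¹ : (ZMod p)ˣ) : ZMod p)) := by
      intro v
      have e6 := Cfsg.Agent.Lib.BF.bfF_const_of_sum_pow_eq_zero w hw
        (fun v => (b (v * ((k⁻¹ : (ZMod p)ˣ) : ZMod p)) : ℤ) -
          (b (v * ((k'⁻¹ : (ZMod p)ˣ) : ZMod p)) : ℤ)) e4 v 0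
      simp only [zero_mul, sub_self] at e6
      have e7 : (b (v * ((k⁻¹ : (ZMod p)ˣ) : ZMod p)) : ℤ) =
          b (v * ((k'⁻¹ : (ZMod p)ˣ) : ZMod p)) := by linarith
      exact_mod_cast e7
    have hmem : k' * k⁻¹ ∈ S := by
      rw [hS]
      intro v
      have e8 := e5 (v * (k' : ZMod p))
      rw [Units.mul_inv_cancel_right] at e8
      rw [← e8, Units.val_mul]
      congr 1
      ring
    rcases hS2 _ hmem with h' | h'
    · left
      exact mul_inv_eq_one.mp h'
    · right
      rw [mul_inv_eq_iff_eq_mul] at h'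
      rw [h', neg_one_mul]
  -- (F7) twisted column orthogonality at `z`
  have hF : ∑ φ : IrrCharacter G, (if ZC (cz ζ) φ.1 then
      Complex.normSq (φ.1 (z ^ (1 : ZMod p).val)) else 0) = (p : ℝ) := by
    have e := htw 1 1 one_ne_zero
    rw [if_pos (Or.inl rfl)] at e
    apply Complex.ofReal_injective
    rw [Complex.ofReal_sum, Complex.ofReal_natCast, ← e]
    refine Finset.sum_congr rfl ?_
    intro φ _
    split_ifs with hz
    · rw [Complex.mul_conj]
    · simp
  have hFnn : ∀ φ : IrrCharacter G, (0 : ℝ) ≤ (if ZC (cz ζ) φ.1 then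
      Complex.normSq (φ.1 (z ^ (1 : ZMod p).val)) else 0) := by
    intro φ
    split_ifs
    · exact Complex.normSq_nonneg _
    · exact le_rfl
  have hcount : ∑ k : (ZMod p)ˣ, Complex.normSq (ζ (z ^ (k : ZMod p).val)) ≤ 2 * (p : ℝ) := by
    have e1 : ∀ k : (ZMod p)ˣ, Complex.normSq (ζ (z ^ (k : ZMod p).val)) =
        (fun φ : IrrCharacter G => if ZC (cz ζ) φ.1 then
          Complex.normSq (φ.1 (z ^ (1 : ZMod p).val)) else 0) (Yk k) := by
      intro k
      simp only [if_pos (hYzc k), hYz k]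
    rw [Finset.sum_congr rfl (fun k _ => e1 k),
      Finset.sum_comp (fun φ : IrrCharacter G => if ZC (cz ζ) φ.1 then
          Complex.normSq (φ.1 (z ^ (1 : ZMod p).val)) else 0) Yk, ← hF, Finset.mul_sum]
    calc ∑ φ ∈ Finset.univ.image Yk, (Finset.univ.filter (fun k => Yk k = φ)).card •
          (if ZC (cz ζ) φ.1 then Complex.normSq (φ.1 (z ^ (1 : ZMod p).val)) else 0)
        ≤ ∑ φ ∈ Finset.univ.image Yk, 2 *
          (if ZC (cz ζ) φ.1 then Complex.normSq (φ.1 (z ^ (1 : ZMod p).val)) else 0) := by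
          apply Finset.sum_le_sum
          intro φ hφ
          rw [nsmul_eq_mul]
          refine mul_le_mul_of_nonneg_right ?_ (hFnn φ)
          obtain ⟨k₀, -, rfl⟩ := Finset.mem_image.mp hφ
          have hsub : Finset.univ.filter (fun k => Yk k = Yk k₀) ⊆ {k₀, -k₀} := by
            intro k hk
            rw [Finset.mem_filter] at hk
            rw [Finset.mem_insert, Finset.mem_singleton]
            exact hfib k₀ k hk.2.symm
          have hc2 := (Finset.card_le_card hsub).trans Finset.card_le_two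
          exact_mod_cast hc2
      _ ≤ ∑ φ : IrrCharacter G, 2 *
          (if ZC (cz ζ) φ.1 then Complex.normSq (φ.1 (z ^ (1 : ZMod p).val)) else 0) := by
          apply Finset.sum_le_sum_of_subset_of_nonneg (Finset.subset_univ _)
          intro φ _ _
          exact mul_nonneg (by norm_num) (hFnn φ)
  -- (F8) Parseval
  have hpars : ∑ t : ZMod p, Complex.normSq (ζ (z ^ t.val)) =
      ((p * ∑ u : ZMod p, b u ^ 2 : ℕ) : ℝ) := by
    apply Complex.ofReal_injective
    rw [Complex.ofReal_sum, Complex.ofReal_natCast,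
      ← Cfsg.Agent.Lib.Helper40.BFT.parseval_zmod p w hw b]
    refine Finset.sum_congr rfl ?_
    intro t _
    rw [← hb t, Complex.mul_conj]
  have hQ : ∑ k : (ZMod p)ˣ, Complex.normSq (ζ (z ^ (k : ZMod p).val)) + ((p : ℝ) - 2) ^ 2 =
      (p : ℝ) * ((∑ u : ZMod p, b u ^ 2 : ℕ) : ℝ) := by
    have e := exact_units_sum_real p (fun t => Complex.normSq (ζ (z ^ t.val)))
    have e0 : Complex.normSq (ζ (z ^ (0 : ZMod p).val)) = ((p : ℝ) - 2) ^ 2 := by
      rw [ZMod.val_zero, pow_zero, h.deg]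
      have e00 : ((p : ℂ) - 2) = (((p : ℝ) - 2 : ℝ) : ℂ) := by
        push_cast
        ring
      rw [e00, Complex.normSq_ofReal]
      ring
    rw [hpars, e0] at e
    rw [e]
    push_cast
    ring
  have hsq : ∑ u : ZMod p, b u ^ 2 + 2 ≤ p := by
    have e1 : (p : ℝ) * ((∑ u : ZMod p, b u ^ 2 : ℕ) : ℝ) ≤ 2 * (p : ℝ) + ((p : ℝ) - 2) ^ 2 := by
      rw [← hQ]
      linarith [hcount]
    by_contra hcon
    push Not at hcon
    have h3 : (p : ℝ) - 1 ≤ ((∑ u : ZMod p, b u ^ 2 : ℕ) : ℝ) := by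
      have h31 : p ≤ ∑ u : ZMod p, b u ^ 2 + 1 := by omega
      have h32 : (p : ℝ) ≤ ((∑ u : ZMod p, b u ^ 2 : ℕ) : ℝ) + 1 := by exact_mod_cast h31
      linarith
    have h5 : (6 : ℝ) ≤ (p : ℝ) := by
      have h51 : 6 ≤ p := hp5
      exact_mod_cast h51
    nlinarith [mul_nonneg (by linarith : (0 : ℝ) ≤ (p : ℝ)) (sub_nonneg.mpr h3)]
  -- (F9) `b v ≤ 1`
  have hb01 : ∀ v : ZMod p, b v ≤ 1 := by
    by_contra hcon
    push Not at hcon
    obtain ⟨v₀, hv₀⟩ := hcon
    have hlt : ∑ v : ZMod p, b v < ∑ v : ZMod p, b v ^ 2 := by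
      apply Finset.sum_lt_sum
      · intro v _
        exact Nat.le_self_pow two_ne_zero (b v)
      · refine ⟨v₀, Finset.mem_univ _, ?_⟩
        rw [pow_two]
        nlinarith
    omega
  -- (F10) the zeros of `b`
  have hZcard : (Finset.univ.filter (fun v : ZMod p => b v = 0)).card = 2 := by
    have e1 : ∑ v : ZMod p, b v = (Finset.univ.filter (fun v : ZMod p => ¬ b v = 0)).card := by
      rw [Finset.card_filter]
      refine Finset.sum_congr rfl ?_
      intro v _
      have h01 := hb01 v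
      by_cases h0 : b v = 0 <;> simp [h0] <;> omega
    have e2 := Finset.card_filter_add_card_filter_not
      (s := (Finset.univ : Finset (ZMod p))) (fun v : ZMod p => b v = 0)
    rw [Finset.card_univ, ZMod.card p] at e2
    omega
  obtain ⟨u, hu⟩ : ∃ u : ZMod p, b u = 0 := by
    have hne : (Finset.univ.filter (fun v : ZMod p => b v = 0)).Nonempty := by
      rw [← Finset.card_pos, hZcard]
      norm_num
    obtain ⟨u, hu⟩ := hne
    exact ⟨u, (Finset.mem_filter.mp hu).2⟩
  have hu0 : u ≠ 0 := by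
    intro e
    rw [e, hb0] at hu
    exact one_ne_zero hu
  have hune : u ≠ -u := by
    intro e
    have e1 : u + u = 0 := by
      nth_rewrite 2 [e]
      exact add_neg_cancel u
    have e2 : (2 : ZMod p) * u = 0 := by
      rw [two_mul]
      exact e1
    rcases mul_eq_zero.mp e2 with h' | h'
    · exact h20 h'
    · exact hu0 h'
  have hZ : ∀ v : ZMod p, b v = 0 → v = u ∨ v = -u := by
    have hsub : ({u, -u} : Finset (ZMod p)) ⊆
        Finset.univ.filter (fun v : ZMod p => b v = 0) := by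
      intro v hv
      rw [Finset.mem_insert, Finset.mem_singleton] at hv
      rw [Finset.mem_filter]
      refine ⟨Finset.mem_univ _, ?_⟩
      rcases hv with rfl | rfl
      · exact hu
      · rw [hbneg]
        exact hu
    have heq := Finset.eq_of_subset_of_card_le hsub (by rw [hZcard, Finset.card_pair hune])
    intro v hv
    have hmem : v ∈ ({u, -u} : Finset (ZMod p)) := by
      rw [heq, Finset.mem_filter]
      exact ⟨Finset.mem_univ _, hv⟩
    rwa [Finset.mem_insert, Finset.mem_singleton] at hmem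
  -- (F11) conclusion
  refine ⟨u, hu0, ?_⟩
  intro t ht
  have hbv : ∀ v : ZMod p, (b v : ℂ) = 1 - (if v = u then 1 else 0) -
      (if v = -u then 1 else 0) := by
    intro v
    by_cases h1 : v = u
    · rw [if_pos h1, if_neg (by rw [h1]; exact hune), h1, hu]
      simp
    · by_cases h2 : v = -u
      · rw [if_neg h1, if_pos h2, h2, hbneg, hu]
        simp
      · rw [if_neg h1, if_neg h2]
        have hne : b v ≠ 0 := fun h0 => (hZ v h0).elim h1 h2
        have h1' : b v = 1 := by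
          have h01 := hb01 v
          omega
        rw [h1']
        simp
  rw [hb t]
  have e1 : ∀ v : ZMod p, (b v : ℂ) * w ^ (v * t).val = w ^ (v * t).val -
      (if v = u then w ^ (v * t).val else 0) - (if v = -u then w ^ (v * t).val else 0) := by
    intro v
    rw [hbv v]
    split_ifs <;> ring
  rw [Finset.sum_congr rfl (fun v _ => e1 v), Finset.sum_sub_distrib, Finset.sum_sub_distrib,
    Finset.sum_ite_eq', Finset.sum_ite_eq', if_pos (Finset.mem_univ _),
    if_pos (Finset.mem_univ _)]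
  have e2 : ∑ v : ZMod p, w ^ (v * t).val = 0 := by
    have e3 := Cfsg.Agent.Lib.Helper40.BFT.sum_zeta_pow p w hw t
    rw [if_neg ht] at e3
    rw [← e3]
    refine Finset.sum_congr rfl ?_
    intro v _
    rw [mul_comm]
  rw [e2]
  unfold ev
  rw [neg_mul]
  ring

end Cfsg.Agent.Lib.Helper13.PT
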