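import Mathlib
import Cfsg.Prelude.Def_Characters
import Cfsg.Agent.Lib.Helper22.PTDefs
import Cfsg.Agent.Lib.Helper22.PTAux
import Cfsg.Agent.Lib.Helper37.PTBLKY

/-!
# S4705 project PT (helper22), piece SING (backup proof by helper13)

The sum of a class function over the `p`-singular elements, as a sum over the elements
`z ^ t * c` (`t ≠ 0`, `c` central).
-/

set_option autoImplicit false

namespace Cfsg.Agent.Lib.Helper13.PT

open Cfsg Cfsg.Agent.Lib.Helper22.BFD Cfsg.Agent.Lib.Helper22.PT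
open scoped ComplexConjugate

universe u

variable {G : Type u} [Group G]

theorem sing_mem_centralizer (a y : G) :
    y ∈ Subgroup.centralizer ({a} : Set G) ↔ a * y = y * a := by
  rw [Subgroup.mem_centralizer_iff]
  constructor
  · intro h
    exact h a rfl
  · intro h b hb
    rw [Set.mem_singleton_iff.mp hb]
    exact h

/-- the number of `x` conjugating `h` to `g` -/
theorem sing_fiber_card [Fintype G] (h g : G)
    [DecidablePred (fun x : G => x * h * x⁻¹ = g)] [Decidable (IsConj h g)] :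
    (Finset.univ.filter (fun x : G => x * h * x⁻¹ = g)).card =
      if IsConj h g then Nat.card (Subgroup.centralizer ({h} : Set G)) else 0 := by
  by_cases hc : IsConj h g
  · rw [if_pos hc]
    obtain ⟨x₀, hx₀⟩ := isConj_iff.mp hc
    have e : {x : G // x * h * x⁻¹ = g} ≃ Subgroup.centralizer ({h} : Set G) :=
      { toFun := fun x => ⟨x₀⁻¹ * x.1, by
          rw [sing_mem_centralizer]
          have h1 : x.1 * h * x.1⁻¹ = x₀ * h * x₀⁻¹ := x.2.trans hx₀.symm
          have h2 : x.1 * h = x₀ * h * x₀⁻¹ * x.1 := by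
            rw [← h1, inv_mul_cancel_right]
          calc h * (x₀⁻¹ * x.1) = x₀⁻¹ * (x₀ * h * x₀⁻¹ * x.1) := by group
            _ = x₀⁻¹ * (x.1 * h) := by rw [h2]
            _ = x₀⁻¹ * x.1 * h := by group⟩
        invFun := fun y => ⟨x₀ * y.1, by
          have h1 := (sing_mem_centralizer h y.1).mp y.2
          calc x₀ * y.1 * h * (x₀ * y.1)⁻¹ = x₀ * (y.1 * h) * y.1⁻¹ * x₀⁻¹ := by group
            _ = x₀ * (h * y.1) * y.1⁻¹ * x₀⁻¹ := by rw [h1]
            _ = x₀ * h * x₀⁻¹ := by group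
            _ = g := hx₀⟩
        left_inv := fun x => by
          apply Subtype.ext
          simp
        right_inv := fun y => by
          apply Subtype.ext
          simp }
    rw [← Nat.card_congr e, Nat.card_eq_fintype_card, Fintype.card_subtype]
  · rw [if_neg hc, Finset.card_eq_zero, Finset.filter_eq_empty_iff]
    intro x _ hx
    exact hc (isConj_iff.mpr ⟨x, hx⟩)

theorem sing_pow_val_add (p : ℕ) [Fact p.Prime] (x : G) (hx : x ^ p = 1)
    (a b : ZMod p) : x ^ (a + b).val = x ^ a.val * x ^ b.val := by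
  rw [← pow_add, ZMod.val_add, ← pow_eq_pow_mod _ hx]

/-- `z = (z ^ t) ^ (t⁻¹)` -/
theorem sing_pow_inv (p : ℕ) [Fact p.Prime] (z : G) (hz : orderOf z = p) (t : ZMod p)
    (ht : t ≠ 0) : (z ^ t.val) ^ (t⁻¹).val = z := by
  haveI : NeZero p := ⟨(Fact.out : p.Prime).ne_zero⟩
  rw [Cfsg.Agent.Lib.Helper37.PT.blky_zpow p z hz, ZMod.natCast_zmod_val, mul_inv_cancel₀ ht,
    ZMod.val_one, pow_one]

theorem sing_centralizer_eq (p : ℕ) [Fact p.Prime] (z : G) (hz : orderOf z = p) (t : ZMod p)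
    (ht : t ≠ 0) (c : G) (hc : c ∈ Subgroup.center G) :
    Subgroup.centralizer ({z ^ t.val * c} : Set G) = Subgroup.centralizer ({z} : Set G) := by
  ext y
  rw [sing_mem_centralizer, sing_mem_centralizer]
  have hcy : Commute c y := (Subgroup.mem_center_iff.mp hc y).symm
  constructor
  · intro h1
    have h2 : Commute (z ^ t.val * c) y := h1
    have h3 : Commute (z ^ t.val) y := by
      have h30 := h2.mul_left hcy.inv_left
      rwa [mul_inv_cancel_right] at h30
    have h4 : Commute ((z ^ t.val) ^ (t⁻¹).val) y := h3.pow_left _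
    rw [sing_pow_inv p z hz t ht] at h4
    exact h4
  · intro h1
    have h2 : Commute z y := h1
    exact ((h2.pow_left _).mul_left hcy)

theorem sing_dvd_orderOf (p : ℕ) [Fact p.Prime] (z : G) (hz : orderOf z = p)
    (hreg : ∀ c ∈ Subgroup.center G, ¬ p ∣ orderOf c) (t : ZMod p) (ht : t ≠ 0)
    (c : G) (hc : c ∈ Subgroup.center G) : p ∣ orderOf (z ^ t.val * c) := by
  have hp : p.Prime := Fact.out
  haveI : NeZero p := ⟨hp.ne_zero⟩
  have hcomm : Commute (z ^ t.val) c := Subgroup.mem_center_iff.mp hc (z ^ t.val)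
  have ho : orderOf (z ^ t.val) = p := by
    have hcop : (orderOf z).Coprime t.val := by
      rw [hz, Nat.Prime.coprime_iff_not_dvd hp]
      intro hd
      have h0 : t.val ≠ 0 := by
        intro h00
        exact ht ((ZMod.val_eq_zero t).mp h00)
      exact absurd (Nat.le_of_dvd (Nat.pos_of_ne_zero h0) hd) (not_le.mpr (ZMod.val_lt t))
    rw [hcop.orderOf_pow, hz]
  have hco : (orderOf (z ^ t.val)).Coprime (orderOf c) := by
    rw [ho, Nat.Prime.coprime_iff_not_dvd hp]
    exact hreg c hc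
  rw [hcomm.orderOf_mul_eq_mul_orderOf_of_coprime hco, ho]
  exact dvd_mul_right _ _

variable [Fintype G]

theorem sing_conj_iff (p : ℕ) [Fact p.Prime] (z : G) (ζ : G → ℂ) (h : Hyp G p z ζ)
    (hl : Loc G p z ζ) (t t₀ : ZMod p) (ht₀ : t₀ ≠ 0) (c c₀ : G)
    (hc : c ∈ Subgroup.center G) (hc₀ : c₀ ∈ Subgroup.center G) :
    IsConj (z ^ t.val * c) (z ^ t₀.val * c₀) ↔ c = c₀ ∧ (t = t₀ ∨ t = -t₀) := by
  have hp : p.Prime := Fact.out
  haveI : NeZero p := ⟨hp.ne_zero⟩
  have hzp : z ^ p = 1 := by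
    rw [← h.ord]
    exact pow_orderOf_eq_one z
  have hreg := Cfsg.Agent.Lib.Helper37.PT.blky_zreg p z h.ord h.sq h.nn
  constructor
  · intro hconj
    obtain ⟨y, hy⟩ := isConj_iff.mp hconj
    have hyc : y * c * y⁻¹ = c := by
      have h0 := Subgroup.mem_center_iff.mp hc y
      rw [h0, mul_inv_cancel_right]
    have ha : y * z ^ t.val * y⁻¹ = z ^ t₀.val * (c₀ * c⁻¹) := by
      have e1 : y * (z ^ t.val * c) * y⁻¹ = (y * z ^ t.val * y⁻¹) * (y * c * y⁻¹) := by group
      rw [e1, hyc] at hy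
      rw [← mul_assoc, ← hy, mul_inv_cancel_right]
    have hd : c₀ * c⁻¹ ∈ Subgroup.center G := Subgroup.mul_mem _ hc₀ (Subgroup.inv_mem _ hc)
    have hdp : (c₀ * c⁻¹) ^ p = 1 := by
      have e2 : (y * z ^ t.val * y⁻¹) ^ p = 1 := by
        rw [conj_pow, ← pow_mul, mul_comm t.val p, pow_mul, hzp, one_pow, mul_one,
          mul_inv_cancel]
      rw [ha] at e2
      have hcomm : Commute (z ^ t₀.val) (c₀ * c⁻¹) := Subgroup.mem_center_iff.mp hd _
      rw [hcomm.mul_pow, ← pow_mul, mul_comm t₀.val p, pow_mul, hzp, one_pow, one_mul] at e2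
      exact e2
    have hd1 : c₀ * c⁻¹ = 1 := by
      have hdvd := orderOf_dvd_of_pow_eq_one hdp
      rcases (Nat.dvd_prime hp).mp hdvd with h1 | h1
      · exact orderOf_eq_one_iff.mp h1
      · exact absurd (h1 ▸ dvd_rfl) (hreg _ hd)
    have hcc : c = c₀ := (mul_inv_eq_one.mp hd1).symm
    refine ⟨hcc, ?_⟩
    rw [hd1, mul_one] at ha
    have hk : IsConj (z ^ (t * t₀⁻¹).val) z := by
      rw [isConj_iff]
      refine ⟨y, ?_⟩
      have e3 : z ^ (t * t₀⁻¹).val = (z ^ t.val) ^ (t₀⁻¹).val := by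
        rw [Cfsg.Agent.Lib.Helper37.PT.blky_zpow p z h.ord, ZMod.natCast_zmod_val]
      rw [e3, ← conj_pow, ha, sing_pow_inv p z h.ord t₀ ht₀]
    rcases hl.cnj _ hk with h1 | h1
    · left
      rw [mul_inv_eq_iff_eq_mul₀ ht₀, one_mul] at h1
      exact h1
    · right
      rw [mul_inv_eq_iff_eq_mul₀ ht₀, neg_one_mul] at h1
      exact h1
  · rintro ⟨rfl, rfl | rfl⟩
    · exact IsConj.refl _
    · obtain ⟨n, hn⟩ := hl.inv
      rw [isConj_iff]
      refine ⟨n, ?_⟩
      have hnc : n * c * n⁻¹ = c := by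
        have h0 := Subgroup.mem_center_iff.mp hc n
        rw [h0, mul_inv_cancel_right]
      have e1 : n * (z ^ (-t₀).val * c) * n⁻¹ =
          (n * z * n⁻¹) ^ (-t₀).val * (n * c * n⁻¹) := by
        rw [conj_pow]
        group
      rw [e1, hnc, hn, inv_pow]
      congr 1
      apply inv_eq_of_mul_eq_one_right
      rw [← sing_pow_val_add p z hzp, neg_add_cancel, ZMod.val_zero, pow_zero]

theorem sing_ne_neg (p : ℕ) [Fact p.Prime] (hp5 : 5 < p) (t : ZMod p) (ht : t ≠ 0) : t ≠ -t := by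
  have h2v : (2 : ZMod p).val = 2 := by
    rw [show (2 : ZMod p) = ((2 : ℕ) : ZMod p) by norm_cast, ZMod.val_natCast,
      Nat.mod_eq_of_lt (by omega)]
  have h20 : (2 : ZMod p) ≠ 0 := by
    intro h0
    rw [h0, ZMod.val_zero] at h2v
    omega
  intro e
  have e1 : t + t = 0 := by
    nth_rewrite 2 [e]
    exact add_neg_cancel t
  have e2 : (2 : ZMod p) * t = 0 := by
    rw [two_mul]
    exact e1
  rcases mul_eq_zero.mp e2 with h' | h'
  · exact h20 h'
  · exact ht h'

/-- the number of pairs `(t, c)` with `z ^ t * c` conjugate to `g` -/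
theorem sing_count [DecidableEq G] (p : ℕ) [Fact p.Prime] (z : G) (ζ : G → ℂ) (h : Hyp G p z ζ)
    (hl : Loc G p z ζ) (g : G)
    [DecidablePred (fun q : ZMod p × G => (q.1 ≠ 0 ∧ q.2 ∈ Subgroup.center G) ∧
      IsConj (z ^ q.1.val * q.2) g)] :
    (Finset.univ.filter (fun q : ZMod p × G => (q.1 ≠ 0 ∧ q.2 ∈ Subgroup.center G) ∧
      IsConj (z ^ q.1.val * q.2) g)).card = if p ∣ orderOf g then 2 else 0 := by
  have hp : p.Prime := Fact.out
  have hreg := Cfsg.Agent.Lib.Helper37.PT.blky_zreg p z h.ord h.sq h.nn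
  by_cases hg : p ∣ orderOf g
  · rw [if_pos hg]
    obtain ⟨x₀, t₀, ht₀, c₀, hc₀, hgx⟩ := psd p z ζ h hl g hg
    have hg0 : IsConj (z ^ t₀.val * c₀) g := isConj_iff.mpr ⟨x₀, hgx.symm⟩
    have hne : t₀ ≠ -t₀ := sing_ne_neg p h.p5 t₀ ht₀
    have hfil : Finset.univ.filter (fun q : ZMod p × G =>
        (q.1 ≠ 0 ∧ q.2 ∈ Subgroup.center G) ∧ IsConj (z ^ q.1.val * q.2) g) =
        {(t₀, c₀), (-t₀, c₀)} := by
      ext q
      rw [Finset.mem_filter, Finset.mem_insert, Finset.mem_singleton]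
      constructor
      · rintro ⟨-, ⟨hq1, hq2⟩, hq3⟩
        have h1 := (sing_conj_iff p z ζ h hl q.1 t₀ ht₀ q.2 c₀ hq2 hc₀).mp (hq3.trans hg0.symm)
        rcases h1 with ⟨h2, h3 | h3⟩
        · left
          exact Prod.ext h3 h2
        · right
          exact Prod.ext h3 h2
      · rintro (rfl | rfl)
        · exact ⟨Finset.mem_univ _, ⟨ht₀, hc₀⟩, hg0⟩
        · refine ⟨Finset.mem_univ _, ⟨neg_ne_zero.mpr ht₀, hc₀⟩, ?_⟩
          exact ((sing_conj_iff p z ζ h hl (-t₀) t₀ ht₀ c₀ c₀ hc₀ hc₀).mpr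
            ⟨rfl, Or.inr rfl⟩).trans hg0
    rw [hfil, Finset.card_pair]
    intro e
    exact hne (congrArg Prod.fst e)
  · rw [if_neg hg, Finset.card_eq_zero, Finset.filter_eq_empty_iff]
    rintro q - ⟨⟨hq1, hq2⟩, hq3⟩
    apply hg
    obtain ⟨x, hx⟩ := isConj_iff.mp hq3
    have ho : orderOf g = orderOf (z ^ q.1.val * q.2) := by
      rw [← hx]
      exact orderOf_injective (MulAut.conj x).toMonoidHom (MulAut.conj x).injective _
    rw [ho]
    exact sing_dvd_orderOf p z h.ord hreg q.1 hq1 q.2 hq2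

/-- PIECE SING -/
theorem sing (p : ℕ) [Fact p.Prime] (z : G) (ζ : G → ℂ) (h : Hyp G p z ζ)
    (hl : Loc G p z ζ) : Sing p z := by
  classical
  intro F hF
  have hp : p.Prime := Fact.out
  have hK : ∀ q : ZMod p × G, q.1 ≠ 0 ∧ q.2 ∈ Subgroup.center G →
      Nat.card (Subgroup.centralizer ({z ^ q.1.val * q.2} : Set G)) =
        p * Nat.card (Subgroup.center G) := by
    intro q hq
    rw [sing_centralizer_eq p z h.ord q.1 hq.1 q.2 hq.2, ccard p z ζ h hl]
  have KI : ∀ q : ZMod p × G, q.1 ≠ 0 ∧ q.2 ∈ Subgroup.center G →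
      (Nat.card G : ℂ) * F (z ^ q.1.val * q.2) =
        ∑ g : G, (if IsConj (z ^ q.1.val * q.2) g then
          ((p * Nat.card (Subgroup.center G) : ℕ) : ℂ) * F g else 0) := by
    intro q hq
    have e1 : ∑ x : G, F (x * (z ^ q.1.val * q.2) * x⁻¹) =
        (Nat.card G : ℂ) * F (z ^ q.1.val * q.2) := by
      rw [Finset.sum_congr rfl (fun x _ => hF _ x), Finset.sum_const, Finset.card_univ,
        nsmul_eq_mul, Nat.card_eq_fintype_card]
    rw [← e1, ← Finset.sum_fiberwise Finset.univ (fun x : G => x * (z ^ q.1.val * q.2) * x⁻¹)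
      (fun x => F (x * (z ^ q.1.val * q.2) * x⁻¹))]
    refine Finset.sum_congr rfl ?_
    intro g _
    have e2 : ∀ x ∈ Finset.univ.filter (fun x : G => x * (z ^ q.1.val * q.2) * x⁻¹ = g),
        F (x * (z ^ q.1.val * q.2) * x⁻¹) = F g := by
      intro x hx
      rw [(Finset.mem_filter.mp hx).2]
    rw [Finset.sum_congr rfl e2, Finset.sum_const, sing_fiber_card, nsmul_eq_mul]
    split_ifs with hc
    · rw [hK q hq]
    · simp
  have hmain : (Nat.card G : ℂ) * ∑ t : ZMod p, ∑ c : G,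
      (if t ≠ 0 ∧ c ∈ Subgroup.center G then F (z ^ t.val * c) else 0) =
      ((p * Nat.card (Subgroup.center G) : ℕ) : ℂ) *
        (2 * ∑ g : G, (if p ∣ orderOf g then F g else 0)) := by
    have s1 : ∑ t : ZMod p, ∑ c : G,
        (if t ≠ 0 ∧ c ∈ Subgroup.center G then F (z ^ t.val * c) else 0) =
        ∑ q : ZMod p × G, (if q.1 ≠ 0 ∧ q.2 ∈ Subgroup.center G then
          F (z ^ q.1.val * q.2) else 0) :=
      (Fintype.sum_prod_type' (fun (t : ZMod p) (c : G) =>
        if t ≠ 0 ∧ c ∈ Subgroup.center G then F (z ^ t.val * c) else 0)).symm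
    rw [s1, Finset.mul_sum]
    have s2 : ∀ q : ZMod p × G, (Nat.card G : ℂ) *
        (if q.1 ≠ 0 ∧ q.2 ∈ Subgroup.center G then F (z ^ q.1.val * q.2) else 0) =
        ∑ g : G, (if (q.1 ≠ 0 ∧ q.2 ∈ Subgroup.center G) ∧ IsConj (z ^ q.1.val * q.2) g then
          ((p * Nat.card (Subgroup.center G) : ℕ) : ℂ) * F g else 0) := by
      intro q
      by_cases hq : q.1 ≠ 0 ∧ q.2 ∈ Subgroup.center G
      · rw [if_pos hq, KI q hq]
        refine Finset.sum_congr rfl ?_
        intro g _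
        by_cases hc : IsConj (z ^ q.1.val * q.2) g
        · rw [if_pos hc, if_pos ⟨hq, hc⟩]
        · rw [if_neg hc, if_neg (fun h' => hc h'.2)]
      · rw [if_neg hq, mul_zero]
        symm
        apply Finset.sum_eq_zero
        intro g _
        rw [if_neg (fun h' => hq h'.1)]
    rw [Finset.sum_congr rfl (fun q _ => s2 q), Finset.sum_comm]
    have s3 : ∀ g : G, ∑ q : ZMod p × G,
        (if (q.1 ≠ 0 ∧ q.2 ∈ Subgroup.center G) ∧ IsConj (z ^ q.1.val * q.2) g then
          ((p * Nat.card (Subgroup.center G) : ℕ) : ℂ) * F g else 0) =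
        ((p * Nat.card (Subgroup.center G) : ℕ) : ℂ) *
          (2 * (if p ∣ orderOf g then F g else 0)) := by
      intro g
      rw [← Finset.sum_filter, Finset.sum_const, sing_count p z ζ h hl g, nsmul_eq_mul]
      split_ifs <;> simp <;> ring
    rw [Finset.sum_congr rfl (fun g _ => s3 g), ← Finset.mul_sum, ← Finset.mul_sum]
  have hp0 : (p : ℂ) ≠ 0 := by exact_mod_cast hp.ne_zero
  have hZ0 : (Nat.card (Subgroup.center G) : ℂ) ≠ 0 := by
    have hpos : 0 < Nat.card (Subgroup.center G) := Nat.card_pos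
    exact_mod_cast hpos.ne'
  push_cast at hmain
  have hfinal : ∑ g : G, (if p ∣ orderOf g then F g else 0) =
      ((Nat.card G : ℂ) / (2 * (p : ℂ) * (Nat.card (Subgroup.center G) : ℂ))) *
        ∑ t : ZMod p, ∑ c : G,
          (if t ≠ 0 ∧ c ∈ Subgroup.center G then F (z ^ t.val * c) else 0) := by
    rw [div_mul_eq_mul_div, hmain]
    field_simp
  convert hfinal

end Cfsg.Agent.Lib.Helper13.PT
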