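import Mathlib
import Cfsg.Agent.Lib.Helper48.RCBase

/-! Project QB (helper48, S2359), piece ORD3 (backup copy, proved by helper13): an element
commuting with an element of order 3 has order dividing the order of the Borel subgroup. -/

set_option autoImplicit false

namespace Cfsg.Agent.Lib.Helper48.QB

open Cfsg.Agent.Lib.Helper48.RC

variable {F : Type*} [Field F] [Finite F] [CharP F 3] {G : Type*} [Group G] [Finite G]
variable {θ : F →+* F} {T : F → F → F → G} {H : Fˣ → G} {w : G}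

-- QB-ORD3
theorem ord_three (h : Ok0 θ T H w) (y u : G) (hu : orderOf u = 3) (huy : u * y = y * u) :
    orderOf y ∣ Nat.card h.Bs := by
  haveI : Fact (Nat.Prime 3) := ⟨Nat.prime_three⟩
  obtain ⟨P, hP⟩ := h.syl
  have hpg : IsPGroup 3 (Subgroup.zpowers u) := by
    apply IsPGroup.of_card (n := 1)
    rw [Nat.card_zpowers, hu, pow_one]
  obtain ⟨Q, hQ⟩ := hpg.exists_le_sylow
  obtain ⟨g, hg⟩ := MulAction.exists_smul_eq G Q P
  have huQ : u ∈ (Q : Subgroup G) := hQ (Subgroup.mem_zpowers u)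
  have hu' : g * u * g⁻¹ ∈ h.Qs := by
    rw [h.mem_Qs]
    apply (hP _).mp
    rw [← hg]
    show g * u * g⁻¹ ∈ ((g • Q : Sylow 3 G) : Subgroup G)
    rw [Sylow.coe_subgroup_smul]
    have h3 := Subgroup.smul_mem_pointwise_smul u (MulAut.conj g) (Q : Subgroup G) huQ
    simpa [MulAut.smul_def] using h3
  have hu1 : g * u * g⁻¹ ≠ 1 := by
    intro h1
    have h2 : g⁻¹ * (g * u * g⁻¹) * g = u := by group
    have h3 : u = 1 := by
      rw [← h2, h1]
      group
    rw [h3, orderOf_one] at hu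
    norm_num at hu
  have hconj : (g * y * g⁻¹) * (g * u * g⁻¹) * (g * y * g⁻¹)⁻¹ = g * u * g⁻¹ := by
    have h4 : (g * y * g⁻¹) * (g * u * g⁻¹) * (g * y * g⁻¹)⁻¹ = g * (y * u * y⁻¹) * g⁻¹ := by
      group
    rw [h4, ← huy, mul_inv_cancel_right]
  have hyB : g * y * g⁻¹ ∈ h.Bs := h.mem_Bs_of_conj hu' hu1 (by rw [hconj]; exact hu')
  have hord : orderOf (g * y * g⁻¹) = orderOf y := by
    have h5 := orderOf_injective (MulAut.conj g).toMonoidHom (MulAut.conj g).injective y
    simpa [MulAut.conj_apply] using h5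
  rw [← hord]
  exact Subgroup.orderOf_dvd_natCard _ hyB

end Cfsg.Agent.Lib.Helper48.QB
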