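import Mathlib
import Cfsg.Agent.S0126
import Cfsg.Agent.Lib.Helper41.CL2

set_option autoImplicit false
namespace Cfsg.Agent.Lib.Helper13.Rk2Aut

variable {G : Type*} [Group G]

/-- the centre of `E`, as a subgroup of `G` -/
def zE (E : Subgroup G) : Subgroup G := E ⊓ Subgroup.centralizer (E : Set G)

theorem mem_zE {E : Subgroup G} {v : G} : v ∈ zE E ↔ v ∈ E ∧ ∀ x ∈ E, x * v = v * x := by
  unfold zE
  rw [Subgroup.mem_inf, Subgroup.mem_centralizer_iff]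
  rfl

theorem zE_le (E : Subgroup G) : zE E ≤ E := inf_le_left

theorem zE_conj {E : Subgroup G} (hEn : ∀ g x, x ∈ E → g * x * g⁻¹ ∈ E) {v : G} (hv : v ∈ zE E)
    (g : G) : g * v * g⁻¹ ∈ zE E := by
  rw [mem_zE] at hv ⊢
  refine ⟨hEn g v hv.1, fun x hx => ?_⟩
  have h1 : g⁻¹ * x * g ∈ E := by simpa using hEn g⁻¹ x hx
  have h2 := hv.2 _ h1
  calc x * (g * v * g⁻¹) = g * ((g⁻¹ * x * g) * v) * g⁻¹ := by group
    _ = g * (v * (g⁻¹ * x * g)) * g⁻¹ := by rw [h2]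
    _ = g * v * g⁻¹ * x := by group

theorem zE_eq_map (E : Subgroup G) : zE E = (Subgroup.center E).map E.subtype := by
  ext v
  rw [mem_zE, Subgroup.mem_map]
  constructor
  · rintro ⟨hv, h⟩
    refine ⟨⟨v, hv⟩, ?_, rfl⟩
    rw [Subgroup.mem_center_iff]
    intro g
    exact Subtype.ext (h g.1 g.2)
  · rintro ⟨u, hu, rfl⟩
    rw [Subgroup.mem_center_iff] at hu
    refine ⟨u.2, fun x hx => ?_⟩
    have := hu ⟨x, hx⟩
    exact congrArg Subtype.val this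

theorem card_zE_and_comm {p : ℕ} [Fact p.Prime] [Finite G] (hG : IsPGroup p G) (E : Subgroup G)
    (hEcard : Nat.card E = p ^ 3) (hnc : ∃ x ∈ E, ∃ y ∈ E, x * y ≠ y * x) :
    Nat.card (zE E) = p ∧ ∀ x ∈ E, ∀ y ∈ E, x * y * x⁻¹ * y⁻¹ ∈ zE E := by
  have hp : p.Prime := Fact.out
  have hE' : IsPGroup p E := hG.to_subgroup E
  have hncE : ¬ ∀ a b : E, a * b = b * a := by
    obtain ⟨x, hx, y, hy, hxy⟩ := hnc
    intro h
    exact hxy (congrArg Subtype.val (h ⟨x, hx⟩ ⟨y, hy⟩))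
  have hdvd : Nat.card (Subgroup.center E) ∣ p ^ 3 := by
    rw [← hEcard]; exact Subgroup.card_subgroup_dvd_card _
  obtain ⟨k, hk, hkc⟩ := (Nat.dvd_prime_pow hp).mp hdvd
  have hquot := Subgroup.card_eq_card_quotient_mul_card_subgroup (Subgroup.center E)
  rw [hEcard, hkc] at hquot
  have hk1 : k = 1 := by
    interval_cases k
    · exfalso
      haveI : Nontrivial E := by
        rw [← Finite.one_lt_card_iff_nontrivial, hEcard]
        exact Nat.one_lt_pow (by norm_num) hp.one_lt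
      haveI := hE'.center_nontrivial
      have : 1 < Nat.card (Subgroup.center E) := Finite.one_lt_card
      rw [hkc] at this
      simp at this
    · rfl
    · exfalso
      have hq : Nat.card (E ⧸ Subgroup.center E) = p := by
        have h2 : p ^ 3 = p * p ^ 2 := by ring
        rw [h2] at hquot
        exact (Nat.eq_of_mul_eq_mul_right (pow_pos hp.pos 2) hquot).symm
      haveI := isCyclic_of_prime_card hq
      apply hncE
      exact commutative_of_cyclic_center_quotient (QuotientGroup.mk' (Subgroup.center E))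
        (by rw [QuotientGroup.ker_mk'])
    · exfalso
      apply hncE
      have htop : Subgroup.center E = ⊤ := by
        rw [← Subgroup.card_eq_iff_eq_top, hkc, hEcard]
      intro a b
      have hb : b ∈ Subgroup.center E := by rw [htop]; trivial
      exact Subgroup.mem_center_iff.mp hb a
  subst hk1
  have hq : Nat.card (E ⧸ Subgroup.center E) = p ^ 2 := by
    have h2 : p ^ 3 = p ^ 2 * p ^ 1 := by ring
    rw [h2] at hquot
    exact (Nat.eq_of_mul_eq_mul_right (pow_pos hp.pos 1) hquot).symm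
  refine ⟨?_, ?_⟩
  · rw [zE_eq_map, Subgroup.card_map_of_injective E.subtype_injective, hkc, pow_one]
  · intro x hx y hy
    rw [zE_eq_map, Subgroup.mem_map]
    refine ⟨⟨x, hx⟩ * ⟨y, hy⟩ * ⟨x, hx⟩⁻¹ * ⟨y, hy⟩⁻¹, ?_, rfl⟩
    rw [← QuotientGroup.eq_one_iff]
    have hc := IsPGroup.commutative_of_card_eq_prime_sq hq
    simp only [QuotientGroup.mk_mul, QuotientGroup.mk_inv]
    rw [hc (↑(⟨x, hx⟩ : E)) (↑(⟨y, hy⟩ : E))]
    group

theorem gen_of_card_prime {p : ℕ} [Fact p.Prime] [Finite G] (Z : Subgroup G) (hZ : Nat.card Z = p)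
    {z : G} (hz : z ∈ Z) (hz1 : z ≠ 1) : ∀ v ∈ Z, ∃ n : ℕ, v = z ^ n := by
  intro v hv
  have hne : (⟨z, hz⟩ : Z) ≠ 1 := by
    intro h
    exact hz1 (congrArg Subtype.val h)
  have := mem_powers_of_prime_card hZ (g' := (⟨v, hv⟩ : Z)) hne
  obtain ⟨n, hn⟩ := (Submonoid.mem_powers_iff _ _).mp this
  exact ⟨n, by simpa using (congrArg Subtype.val hn).symm⟩

theorem zE_central {p : ℕ} [Fact p.Prime] [Finite G] (hG : IsPGroup p G) (E : Subgroup G)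
    (hEn : ∀ g x, x ∈ E → g * x * g⁻¹ ∈ E) (hZ : Nat.card (zE E) = p) :
    ∀ v ∈ zE E, ∀ g : G, g * v = v * g := by
  have hp : p.Prime := Fact.out
  haveI : (zE E).Normal := ⟨fun v hv g => zE_conj hEn hv g⟩
  have hne : (⊥ : Subgroup G) ≠ zE E := by
    intro h
    rw [← h] at hZ
    simp at hZ
    exact hp.one_lt.ne hZ
  obtain ⟨r, hr, hr1, hrc⟩ :=
    Cfsg.Agent.Lib.Helper41.CL.exists_central_mod_aux hG ⊥ (zE E) bot_le hne
  have hr1' : r ≠ 1 := fun h => hr1 (by rw [h]; exact Subgroup.one_mem _)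
  have hrc' : ∀ g : G, g * r = r * g := by
    intro g
    have := hrc g
    rw [Subgroup.mem_bot] at this
    calc g * r = (g * r * g⁻¹ * r⁻¹) * r * g := by group
      _ = r * g := by rw [this, one_mul]
  intro v hv g
  obtain ⟨n, rfl⟩ := gen_of_card_prime (zE E) hZ hr hr1' v hv
  exact ((Commute.pow_right (show Commute g r from hrc' g) n)).eq


theorem conj_pow_of_comm {y e l : G} (hyl : y * l = l * y) (hye : y * e * y⁻¹ = l * e) (j : ℕ) :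
    y ^ j * e * (y ^ j)⁻¹ = l ^ j * e := by
  induction j with
  | zero => simp
  | succ j ih =>
    have h1 : y * l ^ j = l ^ j * y := (Commute.pow_right (show Commute y l from hyl) j).eq
    calc y ^ (j + 1) * e * (y ^ (j + 1))⁻¹ = y * (y ^ j * e * (y ^ j)⁻¹) * y⁻¹ := by
          rw [pow_succ']; group
      _ = y * (l ^ j * e) * y⁻¹ := by rw [ih]
      _ = (y * l ^ j) * e * y⁻¹ := by group
      _ = l ^ j * (y * e * y⁻¹) := by rw [h1]; group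
      _ = l ^ (j + 1) * e := by rw [hye, pow_succ]; group

theorem card_step {p : ℕ} [Fact p.Prime] [Finite G] {E H K : Subgroup G} {m j : ℕ}
    (hE : Nat.card E = p ^ m) (hHK : H ≤ K) (hKE : K ≤ E) (hne : H ≠ K)
    (hH : p ^ j ≤ Nat.card H) : p ^ (j + 1) ≤ Nat.card K := by
  have hp : p.Prime := Fact.out
  have hdvd : Nat.card K ∣ p ^ m := by rw [← hE]; exact Subgroup.card_dvd_of_le hKE
  obtain ⟨k, hk, hKc⟩ := (Nat.dvd_prime_pow hp).mp hdvd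
  have hlt : Nat.card H < Nat.card K := by
    by_contra h
    exact hne (Subgroup.eq_of_le_of_card_ge hHK (not_lt.mp h))
  rw [hKc] at hlt ⊢
  have h1 : p ^ j < p ^ k := lt_of_le_of_lt hH hlt
  have h2 : j < k := (Nat.pow_lt_pow_iff_right hp.one_lt).mp h1
  exact Nat.pow_le_pow_right hp.pos h2

theorem pow_inv_of_not_dvd {p : ℕ} [Fact p.Prime] {x : G} (hx : x ^ p = 1) {m : ℕ}
    (hm : ¬ p ∣ m) : ∃ m' : ℕ, (x ^ m) ^ m' = x := by
  have hp : p.Prime := Fact.out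
  have hcop : Nat.Coprime m p := ((Nat.Prime.coprime_iff_not_dvd hp).mpr hm).symm
  obtain ⟨m', -, h⟩ := Nat.exists_mul_mod_eq_one_of_coprime hcop hp.one_lt
  refine ⟨m', ?_⟩
  rw [← pow_mul, pow_eq_pow_mod (m * m') hx, h, pow_one]

theorem mem_zpowers_nat [Finite G] {l a : G} (h : a ∈ Subgroup.zpowers l) : ∃ i : ℕ, a = l ^ i := by
  have := mem_powers_iff_mem_zpowers.mpr h
  obtain ⟨n, hn⟩ := (Submonoid.mem_powers_iff _ _).mp this
  exact ⟨n, hn.symm⟩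

/-- elements of `zpowers l ⊔ Z` for a normal subgroup `Z` -/
theorem mem_zpowers_sup [Finite G] {l x : G} {Z : Subgroup G} [Z.Normal]
    (h : x ∈ Subgroup.zpowers l ⊔ Z) : ∃ i : ℕ, ∃ v ∈ Z, x = l ^ i * v := by
  obtain ⟨a, ha, v, hv, rfl⟩ := Subgroup.mem_sup_of_normal_right.mp h
  obtain ⟨i, rfl⟩ := mem_zpowers_nat ha
  exact ⟨i, v, hv, rfl⟩

theorem mem_cs {l x : G} : x ∈ Subgroup.centralizer ({l} : Set G) ↔ l * x = x * l := by
  rw [Subgroup.mem_centralizer_iff]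
  simp

/-- `(LC)`: in `E` of order `p^3` with centre `Z` of order `p`, the centralizer of a noncentral
element `l` is `⟨l⟩ Z`. -/
theorem comm_form {p : ℕ} [Fact p.Prime] [Finite G] (E : Subgroup G) (hEcard : Nat.card E = p ^ 3)
    (hEn : ∀ g x, x ∈ E → g * x * g⁻¹ ∈ E) (hZ : Nat.card (zE E) = p)
    {l : G} (hl : l ∈ E) (hlZ : l ∉ zE E) {x : G} (hx : x ∈ E) (hxl : x * l = l * x) :
    ∃ i : ℕ, ∃ v ∈ zE E, x = l ^ i * v := by
  haveI : (zE E).Normal := ⟨fun v hv g => zE_conj hEn hv g⟩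
  have hN1 : zE E ≤ Subgroup.zpowers l ⊔ zE E := le_sup_right
  have hNE : Subgroup.zpowers l ⊔ zE E ≤ E ⊓ Subgroup.centralizer {l} := by
    apply sup_le
    · rw [Subgroup.zpowers_le]
      exact Subgroup.mem_inf.mpr ⟨hl, mem_cs.mpr rfl⟩
    · intro v hv
      exact Subgroup.mem_inf.mpr ⟨zE_le E hv, mem_cs.mpr ((mem_zE.mp hv).2 l hl)⟩
  have hne1 : zE E ≠ Subgroup.zpowers l ⊔ zE E := by
    intro h
    apply hlZ
    rw [h]
    exact Subgroup.mem_sup_left (Subgroup.mem_zpowers l)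
  have hc1 : p ^ (1 + 1) ≤ Nat.card (Subgroup.zpowers l ⊔ zE E : Subgroup G) :=
    card_step hEcard hN1 (le_trans hNE inf_le_left) hne1 (by rw [hZ, pow_one])
  have heq : Subgroup.zpowers l ⊔ zE E = E ⊓ Subgroup.centralizer {l} := by
    by_contra hne2
    have hc2 := card_step hEcard hNE inf_le_left hne2 hc1
    have hEq : E ⊓ Subgroup.centralizer {l} = E :=
      Subgroup.eq_of_le_of_card_ge inf_le_left (by rw [hEcard]; exact hc2)
    apply hlZ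
    rw [mem_zE]
    refine ⟨hl, fun x hx => ?_⟩
    have : x ∈ E ⊓ Subgroup.centralizer {l} := by rw [hEq]; exact hx
    exact (mem_cs.mp (Subgroup.mem_inf.mp this).2).symm
  have hxm : x ∈ Subgroup.zpowers l ⊔ zE E := by
    rw [heq]
    exact Subgroup.mem_inf.mpr ⟨hx, mem_cs.mpr hxl.symm⟩
  exact mem_zpowers_sup hxm


/-- the standing configuration -/
structure Cfg (p : ℕ) (E : Subgroup G) (e l y : G) : Prop where
  hEcard : Nat.card E = p ^ 3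
  hEp : ∀ x, x ∈ E ↔ x ^ p = 1
  hZ : Nat.card (zE E) = p
  hZc : ∀ v ∈ zE E, ∀ g : G, g * v = v * g
  hcomm : ∀ x ∈ E, ∀ y ∈ E, x * y * x⁻¹ * y⁻¹ ∈ zE E
  he : e ∈ E
  hl : l ∈ E
  hlZ : l ∉ zE E
  hlc : ∀ g : G, g * l * g⁻¹ * l⁻¹ ∈ zE E
  hyl : y * l = l * y
  hye : y * e * y⁻¹ = l * e

namespace Cfg

variable {p : ℕ} {E : Subgroup G} {e l y : G}

theorem hEn (h : Cfg p E e l y) : ∀ g x, x ∈ E → g * x * g⁻¹ ∈ E := by
  intro g x hx
  rw [h.hEp] at hx ⊢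
  rw [conj_pow, hx]
  group

theorem normalZ (h : Cfg p E e l y) : (zE E).Normal := ⟨fun _ hv g => zE_conj h.hEn hv g⟩

theorem hel [Fact p.Prime] [Finite G] (h : Cfg p E e l y) : e * l ≠ l * e := by
  intro hc
  obtain ⟨i, v, hv, hev⟩ := comm_form E h.hEcard h.hEn h.hZ h.hl h.hlZ h.he hc
  have h1 : Commute y (l ^ i) := Commute.pow_right (show Commute y l from h.hyl) i
  have h2 : Commute y v := h.hZc v hv y
  have h3 : y * e * y⁻¹ = e := by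
    rw [hev]
    have : Commute y (l ^ i * v) := h1.mul_right h2
    rw [this.eq]
    group
  rw [h.hye] at h3
  have : l = 1 := by
    have := congrArg (· * e⁻¹) h3
    simpa using this
  apply h.hlZ
  rw [this]
  exact Subgroup.one_mem _

/-- `z₀ = [l, e]` is a nontrivial central element. -/
theorem z0_mem (h : Cfg p E e l y) : l * e * l⁻¹ * e⁻¹ ∈ zE E := by
  have h1 := h.hlc e
  have h2 : l * e * l⁻¹ * e⁻¹ = (e * l * e⁻¹ * l⁻¹)⁻¹ := by group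
  rw [h2]
  exact Subgroup.inv_mem _ h1

theorem z0_ne [Fact p.Prime] [Finite G] (h : Cfg p E e l y) : l * e * l⁻¹ * e⁻¹ ≠ 1 := by
  intro h1
  apply h.hel
  calc e * l = (l * e * l⁻¹ * e⁻¹)⁻¹ * l * e := by group
    _ = l * e := by rw [h1]; group

theorem normalN [Finite G] (h : Cfg p E e l y) : (Subgroup.zpowers l ⊔ zE E).Normal := by
  haveI := h.normalZ
  refine ⟨fun n hn g => ?_⟩
  obtain ⟨i, v, hv, rfl⟩ := mem_zpowers_sup hn
  have h1 : g * (l ^ i * v) * g⁻¹ = (g * l * g⁻¹) ^ i * (g * v * g⁻¹) := by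
    rw [conj_pow]; group
  rw [h1]
  apply Subgroup.mul_mem
  · apply Subgroup.pow_mem
    have h2 : g * l * g⁻¹ = (g * l * g⁻¹ * l⁻¹) * l := by group
    rw [h2]
    exact Subgroup.mul_mem _ (Subgroup.mem_sup_right (h.hlc g))
      (Subgroup.mem_sup_left (Subgroup.mem_zpowers l))
  · exact Subgroup.mem_sup_right (zE_conj h.hEn hv g)

/-- normal form of the elements of `E` -/
theorem nf [Fact p.Prime] [Finite G] (h : Cfg p E e l y) :
    ∀ x ∈ E, ∃ a b : ℕ, ∃ v ∈ zE E, x = e ^ a * l ^ b * v := by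
  haveI := h.normalZ
  haveI := h.normalN
  have hNE : Subgroup.zpowers l ⊔ zE E ≤ E :=
    sup_le ((Subgroup.zpowers_le).mpr h.hl) (zE_le E)
  have hne1 : zE E ≠ Subgroup.zpowers l ⊔ zE E := by
    intro h'
    apply h.hlZ
    rw [h']
    exact Subgroup.mem_sup_left (Subgroup.mem_zpowers l)
  have hc1 : p ^ (1 + 1) ≤ Nat.card (Subgroup.zpowers l ⊔ zE E : Subgroup G) :=
    card_step h.hEcard le_sup_right hNE hne1 (by rw [h.hZ, pow_one])
  have hTE : Subgroup.zpowers e ⊔ (Subgroup.zpowers l ⊔ zE E) ≤ E :=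
    sup_le ((Subgroup.zpowers_le).mpr h.he) hNE
  have hne2 : Subgroup.zpowers l ⊔ zE E ≠ Subgroup.zpowers e ⊔ (Subgroup.zpowers l ⊔ zE E) := by
    intro h'
    have he' : e ∈ Subgroup.zpowers l ⊔ zE E := by
      rw [h']
      exact Subgroup.mem_sup_left (Subgroup.mem_zpowers e)
    obtain ⟨i, v, hv, hev⟩ := mem_zpowers_sup he'
    apply h.hel
    have h1 : Commute (l ^ i) l := (Commute.refl l).pow_left i
    have h2 : Commute v l := (h.hZc v hv l).symm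
    rw [hev]
    exact (h1.mul_left h2).eq
  have hc2 := card_step h.hEcard le_sup_right hTE hne2 hc1
  have hT : Subgroup.zpowers e ⊔ (Subgroup.zpowers l ⊔ zE E) = E :=
    Subgroup.eq_of_le_of_card_ge hTE (by rw [h.hEcard]; exact hc2)
  intro x hx
  rw [← hT] at hx
  obtain ⟨a, ha, n, hn, rfl⟩ := Subgroup.mem_sup_of_normal_right.mp hx
  obtain ⟨a', rfl⟩ := mem_zpowers_nat ha
  obtain ⟨b, v, hv, rfl⟩ := mem_zpowers_sup hn
  exact ⟨a', b, v, hv, by group⟩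

theorem conj_y (h : Cfg p E e l y) (j : ℕ) : y ^ j * e * (y ^ j)⁻¹ = l ^ j * e :=
  conj_pow_of_comm h.hyl h.hye j

theorem lp (h : Cfg p E e l y) : l ^ p = 1 := (h.hEp l).mp h.hl

theorem ep (h : Cfg p E e l y) : e ^ p = 1 := (h.hEp e).mp h.he

/-- an element commuting with `e` and `l` centralizes `E` -/
theorem cent_of_comm [Fact p.Prime] [Finite G] (h : Cfg p E e l y) {g : G} (hge : g * e = e * g)
    (hgl : g * l = l * g) : g ∈ Subgroup.centralizer (E : Set G) := by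
  rw [Subgroup.mem_centralizer_iff]
  intro x hx
  obtain ⟨a, b, v, hv, rfl⟩ := h.nf x hx
  have h1 : Commute g (e ^ a) := Commute.pow_right hge a
  have h2 : Commute g (l ^ b) := Commute.pow_right hgl b
  have h3 : Commute g v := h.hZc v hv g
  exact ((h1.mul_right h2).mul_right h3).eq.symm

theorem yp_mem [Fact p.Prime] [Finite G] (h : Cfg p E e l y) :
    y ^ p ∈ Subgroup.centralizer (E : Set G) := by
  apply h.cent_of_comm
  · have h1 := h.conj_y p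
    rw [h.lp, one_mul] at h1
    calc y ^ p * e = (y ^ p * e * (y ^ p)⁻¹) * y ^ p := by group
      _ = e * y ^ p := by rw [h1]
  · exact (Commute.pow_left (show Commute y l from h.hyl) p).eq

/-- powers of a product, modulo the centre -/
theorem prodpow (h : Cfg p E e l y) {u w : G} (hu : u ∈ E) (hw : w ∈ E) (a : ℕ) :
    ∃ ζ ∈ zE E, (u * w) ^ a = u ^ a * w ^ a * ζ := by
  induction a with
  | zero => exact ⟨1, Subgroup.one_mem _, by simp⟩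
  | succ a ih =>
    obtain ⟨ζ, hζ, hζe⟩ := ih
    have hζ' := h.hcomm (w ^ a) (Subgroup.pow_mem _ hw a) u hu
    refine ⟨(w ^ a * u * (w ^ a)⁻¹ * u⁻¹) * ζ, Subgroup.mul_mem _ hζ' hζ, ?_⟩
    have c1 : ∀ g : G, g * ζ = ζ * g := h.hZc ζ hζ
    have c2 : ∀ g : G, g * (w ^ a * u * (w ^ a)⁻¹ * u⁻¹) = (w ^ a * u * (w ^ a)⁻¹ * u⁻¹) * g :=
      h.hZc _ hζ'
    calc (u * w) ^ (a + 1) = (u * w) ^ a * (u * w) := pow_succ _ _
      _ = u ^ a * w ^ a * ζ * (u * w) := by rw [hζe]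
      _ = u ^ a * w ^ a * (ζ * (u * w)) := by group
      _ = u ^ a * w ^ a * ((u * w) * ζ) := by rw [c1]
      _ = u ^ a * ((w ^ a * u * (w ^ a)⁻¹ * u⁻¹) * (u * w ^ a)) * w * ζ := by group
      _ = u ^ a * ((u * w ^ a) * (w ^ a * u * (w ^ a)⁻¹ * u⁻¹)) * w * ζ := by rw [← c2]
      _ = u ^ (a + 1) * (w ^ a * ((w ^ a * u * (w ^ a)⁻¹ * u⁻¹) * w)) * ζ := by
          rw [pow_succ]; group
      _ = u ^ (a + 1) * (w ^ a * (w * (w ^ a * u * (w ^ a)⁻¹ * u⁻¹))) * ζ := by rw [← c2]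
      _ = u ^ (a + 1) * w ^ (a + 1) * ((w ^ a * u * (w ^ a)⁻¹ * u⁻¹) * ζ) := by
          rw [pow_succ w a]; group

/-- second normal form -/
theorem nf' [Fact p.Prime] [Finite G] (h : Cfg p E e l y) :
    ∀ x ∈ E, ∃ a b : ℕ, ∃ v ∈ zE E, x = l ^ b * e ^ a * v := by
  intro x hx
  obtain ⟨a, b, v, hv, rfl⟩ := h.nf x hx
  have hζ := h.hcomm (e ^ a) (Subgroup.pow_mem _ h.he a) (l ^ b) (Subgroup.pow_mem _ h.hl b)
  refine ⟨a, b, (e ^ a * l ^ b * (e ^ a)⁻¹ * (l ^ b)⁻¹) * v, Subgroup.mul_mem _ hζ hv, ?_⟩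
  have c2 := h.hZc _ hζ
  calc e ^ a * l ^ b * v = (e ^ a * l ^ b * (e ^ a)⁻¹ * (l ^ b)⁻¹) * (l ^ b * e ^ a) * v := by group
    _ = (l ^ b * e ^ a) * (e ^ a * l ^ b * (e ^ a)⁻¹ * (l ^ b)⁻¹) * v := by rw [← c2]
    _ = l ^ b * e ^ a * (e ^ a * l ^ b * (e ^ a)⁻¹ * (l ^ b)⁻¹ * v) := by group

theorem conj_l (h : Cfg p E e l y) (j : ℕ) :
    l ^ j * e * (l ^ j)⁻¹ = (l * e * l⁻¹ * e⁻¹) ^ j * e :=
  conj_pow_of_comm (h.hZc _ h.z0_mem l) (by group) j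

theorem l_pow_mem [Fact p.Prime] (h : Cfg p E e l y) {j : ℕ} (hj : l ^ j ∈ zE E) : p ∣ j := by
  by_contra hnd
  obtain ⟨m', hm'⟩ := pow_inv_of_not_dvd h.lp hnd
  apply h.hlZ
  rw [← hm']
  exact Subgroup.pow_mem _ hj m'

theorem normalE (h : Cfg p E e l y) : E.Normal := ⟨fun x hx g => h.hEn g x hx⟩

/-- `(c6)`: the elements of order dividing `p` of `⟨y⟩ C_G(E)` lie in `Z(E)` -/
theorem elem_p [Fact p.Prime] [Finite G] (h : Cfg p E e l y) {g : G}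
    (hg : g ∈ Subgroup.zpowers y ⊔ Subgroup.centralizer (E : Set G)) (hgp : g ^ p = 1) :
    g ∈ zE E := by
  haveI := h.normalE
  obtain ⟨a, ha, c, hc, rfl⟩ := Subgroup.mem_sup_of_normal_right.mp hg
  obtain ⟨j, rfl⟩ := mem_zpowers_nat ha
  have hgE : y ^ j * c ∈ E := (h.hEp _).mpr hgp
  have hcc := Subgroup.mem_centralizer_iff.mp hc
  have h1 : Commute (y ^ j) l := Commute.pow_left (show Commute y l from h.hyl) j
  have h2 : Commute c l := (hcc l h.hl).symm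
  obtain ⟨i, v, hv, hgv⟩ := comm_form E h.hEcard h.hEn h.hZ h.hl h.hlZ hgE (h1.mul_left h2).eq
  have e1 : (y ^ j * c) * e * (y ^ j * c)⁻¹ = l ^ j * e := by
    have : c * e = e * c := (hcc e h.he).symm
    calc (y ^ j * c) * e * (y ^ j * c)⁻¹ = y ^ j * (c * e) * c⁻¹ * (y ^ j)⁻¹ := by group
      _ = y ^ j * (e * c) * c⁻¹ * (y ^ j)⁻¹ := by rw [this]
      _ = y ^ j * e * (y ^ j)⁻¹ := by group
      _ = l ^ j * e := h.conj_y j
  have e2 : (y ^ j * c) * e * (y ^ j * c)⁻¹ = (l * e * l⁻¹ * e⁻¹) ^ i * e := by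
    rw [hgv]
    have : v * e = e * v := (h.hZc v hv e).symm
    calc (l ^ i * v) * e * (l ^ i * v)⁻¹ = l ^ i * (v * e) * v⁻¹ * (l ^ i)⁻¹ := by group
      _ = l ^ i * (e * v) * v⁻¹ * (l ^ i)⁻¹ := by rw [this]
      _ = l ^ i * e * (l ^ i)⁻¹ := by group
      _ = (l * e * l⁻¹ * e⁻¹) ^ i * e := h.conj_l i
  have e3 : l ^ j = (l * e * l⁻¹ * e⁻¹) ^ i := by
    have := e1.symm.trans e2
    exact mul_right_cancel this
  have hj : p ∣ j := h.l_pow_mem (by rw [e3]; exact Subgroup.pow_mem _ h.z0_mem i)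
  obtain ⟨j', rfl⟩ := hj
  have hyC : y ^ (p * j') ∈ Subgroup.centralizer (E : Set G) := by
    rw [pow_mul]
    exact Subgroup.pow_mem _ h.yp_mem j'
  exact Subgroup.mem_inf.mpr ⟨hgE, Subgroup.mul_mem _ hyC hc⟩

theorem y_not_cent (h : Cfg p E e l y) : y ∉ Subgroup.centralizer (E : Set G) := by
  intro hy
  have h1 := Subgroup.mem_centralizer_iff.mp hy e h.he
  have h2 : y * e * y⁻¹ = e := by rw [← h1]; group
  rw [h.hye] at h2
  apply h.hlZ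
  have : l = 1 := by simpa using congrArg (· * e⁻¹) h2
  rw [this]
  exact Subgroup.one_mem _

theorem cyc [Fact p.Prime] [Finite G] (h : Cfg p E e l y) (hp2 : p ≠ 2) (hG : IsPGroup p G) :
    IsCyclic ↥(Subgroup.zpowers y ⊔ Subgroup.centralizer (E : Set G)) := by
  have hp : p.Prime := Fact.out
  by_contra hnc
  obtain ⟨A, -, ⟨-, hAe⟩, hAc⟩ := Cfsg.Agent.S0126.result hp2 (hG.to_subgroup _) hnc
  have hle : A.map (Subgroup.subtype _) ≤ zE E := by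
    rintro _ ⟨a, ha, rfl⟩
    apply h.elem_p a.2
    have := hAe a ha
    simpa using congrArg Subtype.val this
  have hcard := Subgroup.card_le_of_le hle
  rw [Subgroup.card_map_of_injective (Subgroup.subtype_injective _), hAc, h.hZ] at hcard
  nlinarith [hp.one_lt]

/-- `(c7)`: `C_G(E) ≤ ⟨y⟩` -/
theorem cent_le [Fact p.Prime] [Finite G] (h : Cfg p E e l y) (hp2 : p ≠ 2) (hG : IsPGroup p G) :
    ∀ c ∈ Subgroup.centralizer (E : Set G), ∃ m : ℕ, c = y ^ m := by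
  have hp : p.Prime := Fact.out
  haveI := h.normalE
  haveI := h.cyc hp2 hG
  obtain ⟨d, hd⟩ := IsCyclic.exists_generator
    (α := ↥(Subgroup.zpowers y ⊔ Subgroup.centralizer (E : Set G)))
  have hyD : y ∈ Subgroup.zpowers y ⊔ Subgroup.centralizer (E : Set G) :=
    Subgroup.mem_sup_left (Subgroup.mem_zpowers y)
  -- every element of `D` is a natural power of `d`
  have hpow : ∀ x ∈ Subgroup.zpowers y ⊔ Subgroup.centralizer (E : Set G),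
      ∃ t : ℕ, x = (d : G) ^ t := by
    intro x hx
    obtain ⟨t, ht⟩ := mem_zpowers_nat (hd ⟨x, hx⟩)
    exact ⟨t, by simpa using congrArg Subtype.val ht⟩
  obtain ⟨a, hya⟩ := hpow y hyD
  -- `d^p ∈ C`
  have hdp : (d : G) ^ p ∈ Subgroup.centralizer (E : Set G) := by
    obtain ⟨a', ha', c, hc, hdc⟩ := Subgroup.mem_sup_of_normal_right.mp d.2
    obtain ⟨j, rfl⟩ := mem_zpowers_nat ha'
    rw [← QuotientGroup.eq_one_iff, ← hdc]
    have h1 : ((c : G) : G ⧸ Subgroup.centralizer (E : Set G)) = 1 :=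
      (QuotientGroup.eq_one_iff c).mpr hc
    have h2 : ((y ^ p : G) : G ⧸ Subgroup.centralizer (E : Set G)) = 1 :=
      (QuotientGroup.eq_one_iff _).mpr h.yp_mem
    rw [QuotientGroup.mk_pow, QuotientGroup.mk_mul, h1, mul_one, QuotientGroup.mk_pow, ← pow_mul,
      mul_comm, pow_mul, ← QuotientGroup.mk_pow, h2, one_pow]
  have hna : ¬ p ∣ a := by
    rintro ⟨a', rfl⟩
    apply h.y_not_cent
    rw [hya, pow_mul]
    exact Subgroup.pow_mem _ hdp a'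
  -- `d` is a power of `y`
  obtain ⟨n, hn⟩ := IsPGroup.iff_orderOf.mp hG (d : G)
  have hdy : ∃ a'' : ℕ, (d : G) = y ^ a'' := by
    rcases Nat.eq_zero_or_pos n with hn0 | hn0
    · rw [hn0, pow_zero, orderOf_eq_one_iff] at hn
      exact ⟨0, by rw [hn, pow_zero]⟩
    · have hcop : Nat.Coprime a (p ^ n) :=
        Nat.Coprime.pow_right n (((Nat.Prime.coprime_iff_not_dvd hp).mpr hna).symm)
      obtain ⟨a'', -, ha''⟩ := Nat.exists_mul_mod_eq_one_of_coprime hcop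
        (Nat.one_lt_pow (Nat.pos_iff_ne_zero.mp hn0) hp.one_lt)
      refine ⟨a'', ?_⟩
      have hd1 : (d : G) ^ (p ^ n) = 1 := by rw [← hn]; exact pow_orderOf_eq_one _
      have h3 : y ^ a'' = ((d : G) ^ a) ^ a'' := congrArg (· ^ a'') hya
      rw [h3, ← pow_mul, pow_eq_pow_mod (a * a'') hd1, ha'', pow_one]
  obtain ⟨a'', hda⟩ := hdy
  intro c hc
  obtain ⟨t, ht⟩ := hpow c (Subgroup.mem_sup_right hc)
  exact ⟨a'' * t, by rw [ht, hda, pow_mul]⟩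

theorem z_order [Fact p.Prime] [Finite G] (h : Cfg p E e l y) :
    orderOf (l * e * l⁻¹ * e⁻¹) = p :=
  orderOf_eq_prime ((h.hEp _).mp (zE_le E h.z0_mem)) h.z0_ne

/-- `(c8)`: `C_G(l) = ⟨l⟩⟨y⟩` -/
theorem cent_l [Fact p.Prime] [Finite G] (h : Cfg p E e l y) (hp2 : p ≠ 2) (hG : IsPGroup p G)
    {g : G} (hgl : g * l = l * g) : ∃ i j : ℕ, g = l ^ i * y ^ j := by
  have hzZ : l * e * l⁻¹ * e⁻¹ ∈ zE E := h.z0_mem
  have hzc : ∀ x : G, x * (l * e * l⁻¹ * e⁻¹) = (l * e * l⁻¹ * e⁻¹) * x := h.hZc _ hzZ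
  have hxE : g * e * g⁻¹ ∈ E := h.hEn g e h.he
  obtain ⟨a, b, v, hv, hx⟩ := h.nf' _ hxE
  have hlv : l * v = v * l := h.hZc v hv l
  have h1 : l * (l ^ b * e ^ a * v) * l⁻¹ = (l * e * l⁻¹ * e⁻¹) ^ a * (l ^ b * e ^ a * v) := by
    have hle : l * e ^ a * l⁻¹ = (l * e * l⁻¹ * e⁻¹) ^ a * e ^ a := by
      calc l * e ^ a * l⁻¹ = (l * e * l⁻¹) ^ a := (conj_pow).symm
        _ = ((l * e * l⁻¹ * e⁻¹) * e) ^ a := by congr 1; group
        _ = (l * e * l⁻¹ * e⁻¹) ^ a * e ^ a :=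
          (show Commute (l * e * l⁻¹ * e⁻¹) e from (hzc e).symm).mul_pow a
    have hza : ∀ x : G, x * (l * e * l⁻¹ * e⁻¹) ^ a = (l * e * l⁻¹ * e⁻¹) ^ a * x :=
      fun x => (Commute.pow_right (hzc x) a).eq
    calc l * (l ^ b * e ^ a * v) * l⁻¹ = l ^ b * (l * e ^ a * l⁻¹) * (l * v) * l⁻¹ := by group
      _ = l ^ b * ((l * e * l⁻¹ * e⁻¹) ^ a * e ^ a) * (v * l) * l⁻¹ := by rw [hle, hlv]
      _ = (l ^ b * (l * e * l⁻¹ * e⁻¹) ^ a) * e ^ a * v := by group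
      _ = (l * e * l⁻¹ * e⁻¹) ^ a * (l ^ b * e ^ a * v) := by rw [hza]; group
  have h2 : (l * e * l⁻¹ * e⁻¹) ^ a = (l * e * l⁻¹ * e⁻¹) ^ 1 := by
    have hgz : g * (l * e * l⁻¹ * e⁻¹) * g⁻¹ = l * e * l⁻¹ * e⁻¹ := by rw [hzc g]; group
    have hgl' : g * l * g⁻¹ = l := by rw [hgl]; group
    have h3 : g * (l * e * l⁻¹ * e⁻¹) * g⁻¹
        = l * (g * e * g⁻¹) * l⁻¹ * (g * e * g⁻¹)⁻¹ := by
      calc g * (l * e * l⁻¹ * e⁻¹) * g⁻¹
          = (g * l * g⁻¹) * (g * e * g⁻¹) * (g * l * g⁻¹)⁻¹ * (g * e * g⁻¹)⁻¹ := by group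
        _ = l * (g * e * g⁻¹) * l⁻¹ * (g * e * g⁻¹)⁻¹ := by rw [hgl']
    rw [hgz, hx, h1] at h3
    rw [pow_one]
    calc (l * e * l⁻¹ * e⁻¹) ^ a
        = (l * e * l⁻¹ * e⁻¹) ^ a * (l ^ b * e ^ a * v) * (l ^ b * e ^ a * v)⁻¹ := by group
      _ = l * e * l⁻¹ * e⁻¹ := h3.symm
  have h4 : a ≡ 1 [MOD p] := by
    have := pow_eq_pow_iff_modEq.mp h2
    rwa [h.z_order] at this
  have hea : e ^ a = e := by
    rw [pow_eq_pow_mod a h.ep, h4, ← pow_eq_pow_mod 1 h.ep, pow_one]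
  rw [hea] at hx
  obtain ⟨i, hvi⟩ := gen_of_card_prime (zE E) h.hZ hzZ h.z0_ne v hv
  have hu : (l ^ i * y ^ b) * e * (l ^ i * y ^ b)⁻¹ = g * e * g⁻¹ := by
    rw [hx, hvi]
    have hc1 : Commute (l ^ i) (l ^ b) := (Commute.refl l).pow_pow i b
    have hzi : ∀ x : G, x * (l * e * l⁻¹ * e⁻¹) ^ i = (l * e * l⁻¹ * e⁻¹) ^ i * x :=
      fun x => (Commute.pow_right (hzc x) i).eq
    calc (l ^ i * y ^ b) * e * (l ^ i * y ^ b)⁻¹
        = l ^ i * (y ^ b * e * (y ^ b)⁻¹) * (l ^ i)⁻¹ := by group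
      _ = l ^ i * (l ^ b * e) * (l ^ i)⁻¹ := by rw [h.conj_y b]
      _ = (l ^ i * l ^ b) * e * (l ^ i)⁻¹ := by group
      _ = (l ^ b * l ^ i) * e * (l ^ i)⁻¹ := by rw [hc1.eq]
      _ = l ^ b * (l ^ i * e * (l ^ i)⁻¹) := by group
      _ = l ^ b * ((l * e * l⁻¹ * e⁻¹) ^ i * e) := by rw [h.conj_l i]
      _ = l ^ b * (e * (l * e * l⁻¹ * e⁻¹) ^ i) := by rw [hzi e]
      _ = l ^ b * e * (l * e * l⁻¹ * e⁻¹) ^ i := by group
  have hce : ((l ^ i * y ^ b)⁻¹ * g) * e = e * ((l ^ i * y ^ b)⁻¹ * g) := by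
    calc ((l ^ i * y ^ b)⁻¹ * g) * e = (l ^ i * y ^ b)⁻¹ * (g * e * g⁻¹) * g := by group
      _ = (l ^ i * y ^ b)⁻¹ * ((l ^ i * y ^ b) * e * (l ^ i * y ^ b)⁻¹) * g := by rw [hu]
      _ = e * ((l ^ i * y ^ b)⁻¹ * g) := by group
  have hcl : ((l ^ i * y ^ b)⁻¹ * g) * l = l * ((l ^ i * y ^ b)⁻¹ * g) := by
    have c1 : Commute (l ^ i) l := (Commute.refl l).pow_left i
    have c2 : Commute (y ^ b) l := Commute.pow_left (show Commute y l from h.hyl) b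
    have c3 : Commute (l ^ i * y ^ b) l := c1.mul_left c2
    exact (c3.inv_left.mul_left (show Commute g l from hgl)).eq
  obtain ⟨m, hm⟩ := h.cent_le hp2 hG _ (h.cent_of_comm hce hcl)
  refine ⟨i, b + m, ?_⟩
  calc g = (l ^ i * y ^ b) * ((l ^ i * y ^ b)⁻¹ * g) := by group
    _ = (l ^ i * y ^ b) * y ^ m := by rw [hm]
    _ = l ^ i * y ^ (b + m) := by rw [pow_add]; group

/-- `(c9)`: elements of `E` central modulo `Z(E)` lie in `⟨l⟩ Z(E)` -/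
theorem central_form [Fact p.Prime] [Finite G] (h : Cfg p E e l y) {x : G} (hx : x ∈ E)
    (hxc : y * x * y⁻¹ * x⁻¹ ∈ zE E) : ∃ c : ℕ, ∃ v ∈ zE E, x = l ^ c * v := by
  obtain ⟨a, b, v, hv, rfl⟩ := h.nf' x hx
  obtain ⟨ζ, hζ, hζe⟩ := h.prodpow h.hl h.he a
  have hyb : y * l ^ b = l ^ b * y := (Commute.pow_right (show Commute y l from h.hyl) b).eq
  have hyv : y * v = v * y := h.hZc v hv y
  have hζc : ∀ g : G, g * ζ = ζ * g := h.hZc ζ hζ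
  have h1 : y * (l ^ b * e ^ a * v) * y⁻¹ * (l ^ b * e ^ a * v)⁻¹ = l ^ a * ζ := by
    calc y * (l ^ b * e ^ a * v) * y⁻¹ * (l ^ b * e ^ a * v)⁻¹
        = (y * l ^ b) * e ^ a * y⁻¹ * (y * v) * y⁻¹ * (l ^ b * e ^ a * v)⁻¹ := by group
      _ = (l ^ b * y) * e ^ a * y⁻¹ * (v * y) * y⁻¹ * (l ^ b * e ^ a * v)⁻¹ := by rw [hyb, hyv]
      _ = l ^ b * (y * e ^ a * y⁻¹) * (e ^ a)⁻¹ * (l ^ b)⁻¹ := by group
      _ = l ^ b * (l ^ a * e ^ a * ζ) * (e ^ a)⁻¹ * (l ^ b)⁻¹ := by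
          rw [← conj_pow, h.hye, hζe]
      _ = l ^ b * l ^ a * (e ^ a * ζ) * (e ^ a)⁻¹ * (l ^ b)⁻¹ := by group
      _ = l ^ b * l ^ a * (ζ * e ^ a) * (e ^ a)⁻¹ * (l ^ b)⁻¹ := by rw [hζc]
      _ = l ^ a * ((l ^ b * ζ) * (l ^ b)⁻¹) := by
          have : Commute (l ^ b) (l ^ a) := (Commute.refl l).pow_pow b a
          rw [this.eq]; group
      _ = l ^ a * ((ζ * l ^ b) * (l ^ b)⁻¹) := by rw [hζc]
      _ = l ^ a * ζ := by group
  rw [h1] at hxc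
  have h2 : l ^ a ∈ zE E := by
    have : l ^ a = (l ^ a * ζ) * ζ⁻¹ := by group
    rw [this]
    exact Subgroup.mul_mem _ hxc (Subgroup.inv_mem _ hζ)
  obtain ⟨a', rfl⟩ := h.l_pow_mem h2
  refine ⟨b, v, hv, ?_⟩
  rw [pow_mul, h.ep, one_pow, mul_one]

end Cfg

theorem comm_central {a x ζ w : G} (hζ : ∀ g : G, g * ζ = ζ * g) (hw : ∀ g : G, g * w = w * g) :
    (a * ζ) * (x * w) * (a * ζ)⁻¹ * (x * w)⁻¹ = a * x * a⁻¹ * x⁻¹ := by
  calc (a * ζ) * (x * w) * (a * ζ)⁻¹ * (x * w)⁻¹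
      = a * (ζ * x) * (w * ζ⁻¹) * a⁻¹ * w⁻¹ * x⁻¹ := by group
    _ = a * (x * ζ) * (ζ⁻¹ * w) * a⁻¹ * w⁻¹ * x⁻¹ := by rw [← hζ x, hw ζ⁻¹]
    _ = a * x * (w * a⁻¹) * w⁻¹ * x⁻¹ := by group
    _ = a * x * (a⁻¹ * w) * w⁻¹ * x⁻¹ := by rw [← hw a⁻¹]
    _ = a * x * a⁻¹ * x⁻¹ := by group

namespace Cfg

variable {p : ℕ} {E : Subgroup G} {e l y : G}

/-- the eigenvalue computation in the standing configuration -/
theorem final [Fact p.Prime] [Finite G] (h : Cfg p E e l y) (hp2 : p ≠ 2) (hG : IsPGroup p G)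
    (α : G ≃* G) {w : G} (hw : w ∈ zE E) (b : ℕ) (hα : α e = e ^ b * w) :
    b ^ 2 ≡ 1 [MOD p] := by
  have hp : p.Prime := Fact.out
  have hβE : ∀ (β : G ≃* G) (x : G), x ∈ E → β x ∈ E := by
    intro β x hx
    rw [h.hEp] at hx ⊢
    rw [← map_pow, hx, map_one]
  have hβZ : ∀ (β : G ≃* G) (v : G), v ∈ zE E → β v ∈ zE E := by
    intro β v hv
    rw [mem_zE] at hv ⊢
    refine ⟨hβE β v hv.1, fun x hx => ?_⟩
    have h1 := hv.2 (β.symm x) (hβE β.symm x hx)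
    have h2 := congrArg β h1
    simpa using h2
  have hαlE : α l ∈ E := hβE α l h.hl
  have hαlc : y * α l * y⁻¹ * (α l)⁻¹ ∈ zE E := by
    have h1 := hβZ α _ (h.hlc (α.symm y))
    simpa using h1
  obtain ⟨c, v1, hv1, hαl⟩ := h.central_form hαlE hαlc
  have hc : ¬ p ∣ c := by
    rintro ⟨c', rfl⟩
    apply h.hlZ
    have h1 : α l ∈ zE E := by
      rw [hαl, pow_mul, h.lp, one_pow, one_mul]; exact hv1
    have h2 := hβZ α.symm _ h1
    simpa using h2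
  obtain ⟨c', hc'⟩ := pow_inv_of_not_dvd h.lp hc
  have hyl' : α y * l = l * α y := by
    have h0 : α y * α l = α l * α y := by
      have := congrArg α h.hyl
      simpa using this
    have h1 : Commute (α y) (α l) := h0
    rw [hαl] at h1
    have h2 : Commute (α y) v1 := h.hZc v1 hv1 (α y)
    have h3 : Commute (α y) (l ^ c) := by
      have : l ^ c = (l ^ c * v1) * v1⁻¹ := by group
      rw [this]
      exact h1.mul_right h2.inv_right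
    have h4 := h3.pow_right c'
    rw [hc'] at h4
    exact h4.eq
  obtain ⟨i, k, hαy⟩ := h.cent_l hp2 hG hyl'
  have hkey : α y * α e * (α y)⁻¹ = α l * α e := by
    have := congrArg α h.hye
    simpa using this
  have hαeE : α e ∈ E := hβE α e h.he
  have hk : ¬ p ∣ k := by
    rintro ⟨k', rfl⟩
    have hcen : y ^ (p * k') ∈ Subgroup.centralizer (E : Set G) := by
      rw [pow_mul]; exact Subgroup.pow_mem _ h.yp_mem k'
    have h1 := Subgroup.mem_centralizer_iff.mp hcen (α e) hαeE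
    have h2 : α l = l ^ i * α e * (l ^ i)⁻¹ * (α e)⁻¹ := by
      calc α l = (α l * α e) * (α e)⁻¹ := by group
        _ = (α y * α e * (α y)⁻¹) * (α e)⁻¹ := by rw [hkey]
        _ = l ^ i * (y ^ (p * k') * α e) * (y ^ (p * k'))⁻¹ * (l ^ i)⁻¹ * (α e)⁻¹ := by
            rw [hαy]; group
        _ = l ^ i * (α e * y ^ (p * k')) * (y ^ (p * k'))⁻¹ * (l ^ i)⁻¹ * (α e)⁻¹ := by rw [h1]
        _ = l ^ i * α e * (l ^ i)⁻¹ * (α e)⁻¹ := by group
    have h3 : α l ∈ zE E := by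
      rw [h2]; exact h.hcomm _ (Subgroup.pow_mem _ h.hl i) _ hαeE
    apply h.hlZ
    have h4 := hβZ α.symm _ h3
    simpa using h4
  have hzc : ∀ g : G, g * (l * e * l⁻¹ * e⁻¹) = (l * e * l⁻¹ * e⁻¹) * g := h.hZc _ h.z0_mem
  -- first evaluation of `α z`
  have hz1 : α (l * e * l⁻¹ * e⁻¹) = (l * e * l⁻¹ * e⁻¹) ^ k := by
    have hzcen : l * e * l⁻¹ * e⁻¹ ∈ Subgroup.centralizer (E : Set G) := by
      have : l * e * l⁻¹ * e⁻¹ ∈ E ⊓ Subgroup.centralizer (E : Set G) := h.z0_mem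
      exact (Subgroup.mem_inf.mp this).2
    obtain ⟨m, hm⟩ := h.cent_le hp2 hG _ hzcen
    have hly : Commute (l ^ i) (y ^ k) := (show Commute l y from h.hyl.symm).pow_pow i k
    have h1 : α (l * e * l⁻¹ * e⁻¹) = (l ^ i) ^ m * (l * e * l⁻¹ * e⁻¹) ^ k := by
      calc α (l * e * l⁻¹ * e⁻¹) = α (y ^ m) := by rw [← hm]
        _ = (α y) ^ m := map_pow α y m
        _ = (l ^ i * y ^ k) ^ m := by rw [hαy]
        _ = (l ^ i) ^ m * (y ^ k) ^ m := hly.mul_pow m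
        _ = (l ^ i) ^ m * (y ^ m) ^ k := by rw [← pow_mul y, ← pow_mul y, mul_comm k m]
        _ = (l ^ i) ^ m * (l * e * l⁻¹ * e⁻¹) ^ k := by rw [← hm]
    have h2 : (l ^ i) ^ m ∈ zE E := by
      have h3 : (l ^ i) ^ m = α (l * e * l⁻¹ * e⁻¹) * ((l * e * l⁻¹ * e⁻¹) ^ k)⁻¹ := by
        rw [h1]; group
      rw [h3]
      exact Subgroup.mul_mem _ (hβZ α _ h.z0_mem)
        (Subgroup.inv_mem _ (Subgroup.pow_mem _ h.z0_mem k))
    rw [← pow_mul] at h2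
    obtain ⟨j, hj⟩ := h.l_pow_mem h2
    rw [h1, ← pow_mul, hj, pow_mul, h.lp, one_pow, one_mul]
  -- `α l` modulo the centre
  have hwc : ∀ g : G, g * w = w * g := h.hZc w hw
  obtain ⟨ζ1, hζ1, hζ1e⟩ := h.prodpow (Subgroup.pow_mem _ h.hl k) h.he b
  have hζ1c : ∀ g : G, g * ζ1 = ζ1 * g := h.hZc ζ1 hζ1
  have hu : y ^ k * (e ^ b * w) * (y ^ k)⁻¹ = (l ^ k) ^ b * e ^ b * ζ1 * w := by
    calc y ^ k * (e ^ b * w) * (y ^ k)⁻¹
        = (y ^ k * e * (y ^ k)⁻¹) ^ b * (y ^ k * w) * (y ^ k)⁻¹ := by rw [conj_pow]; group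
      _ = (l ^ k * e) ^ b * (w * y ^ k) * (y ^ k)⁻¹ := by rw [h.conj_y k, hwc]
      _ = (l ^ k) ^ b * e ^ b * ζ1 * w := by rw [hζ1e]; group
  have huE : (l ^ k) ^ b * e ^ b * ζ1 * w ∈ E :=
    E.mul_mem (E.mul_mem (E.mul_mem (E.pow_mem (E.pow_mem h.hl k) b) (E.pow_mem h.he b))
      (zE_le E hζ1)) (zE_le E hw)
  obtain ⟨ζ2, hζ2, hζ2e⟩ : ∃ ζ2 ∈ zE E, l ^ i * ((l ^ k) ^ b * e ^ b * ζ1 * w) * (l ^ i)⁻¹
      = ζ2 * ((l ^ k) ^ b * e ^ b * ζ1 * w) :=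
    ⟨_, h.hcomm _ (Subgroup.pow_mem _ h.hl i) _ huE, by group⟩
  have hζ2c : ∀ g : G, g * ζ2 = ζ2 * g := h.hZc ζ2 hζ2
  have hαl2 : α l = (l ^ k) ^ b * (ζ2 * ζ1) := by
    calc α l = (α y * α e * (α y)⁻¹) * (α e)⁻¹ := by rw [hkey]; group
      _ = l ^ i * (y ^ k * (e ^ b * w) * (y ^ k)⁻¹) * (l ^ i)⁻¹ * (e ^ b * w)⁻¹ := by
          rw [hαy, hα]; group
      _ = l ^ i * ((l ^ k) ^ b * e ^ b * ζ1 * w) * (l ^ i)⁻¹ * (e ^ b * w)⁻¹ := by rw [hu]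
      _ = ζ2 * ((l ^ k) ^ b * e ^ b * ζ1 * w) * (e ^ b * w)⁻¹ := by rw [hζ2e]
      _ = ζ2 * ((l ^ k) ^ b * (e ^ b * ζ1) * (e ^ b)⁻¹) := by group
      _ = ζ2 * ((l ^ k) ^ b * (ζ1 * e ^ b) * (e ^ b)⁻¹) := by rw [hζ1c]
      _ = ζ2 * (l ^ k) ^ b * ζ1 := by group
      _ = (l ^ k) ^ b * ζ2 * ζ1 := by rw [← hζ2c]
      _ = (l ^ k) ^ b * (ζ2 * ζ1) := by group
  -- second evaluation of `α z`
  have hz2 : α (l * e * l⁻¹ * e⁻¹) = ((l * e * l⁻¹ * e⁻¹) ^ (k * b)) ^ b := by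
    have hζc : ∀ g : G, g * (ζ2 * ζ1) = (ζ2 * ζ1) * g :=
      h.hZc _ (Subgroup.mul_mem _ hζ2 hζ1)
    have hL : l ^ (k * b) * e ^ b * (l ^ (k * b))⁻¹
        = ((l * e * l⁻¹ * e⁻¹) ^ (k * b)) ^ b * e ^ b := by
      calc l ^ (k * b) * e ^ b * (l ^ (k * b))⁻¹
          = (l ^ (k * b) * e * (l ^ (k * b))⁻¹) ^ b := (conj_pow).symm
        _ = ((l * e * l⁻¹ * e⁻¹) ^ (k * b) * e) ^ b := by rw [h.conj_l]
        _ = ((l * e * l⁻¹ * e⁻¹) ^ (k * b)) ^ b * e ^ b :=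
          (Commute.pow_left (show Commute (l * e * l⁻¹ * e⁻¹) e from (hzc e).symm) _).mul_pow b
    calc α (l * e * l⁻¹ * e⁻¹) = α l * α e * (α l)⁻¹ * (α e)⁻¹ := by simp
      _ = (l ^ (k * b) * (ζ2 * ζ1)) * (e ^ b * w) * (l ^ (k * b) * (ζ2 * ζ1))⁻¹
            * (e ^ b * w)⁻¹ := by rw [hαl2, hα, ← pow_mul]
      _ = l ^ (k * b) * e ^ b * (l ^ (k * b))⁻¹ * (e ^ b)⁻¹ := comm_central hζc hwc
      _ = ((l * e * l⁻¹ * e⁻¹) ^ (k * b)) ^ b := by rw [hL]; group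
  have hfin : (l * e * l⁻¹ * e⁻¹) ^ (k * (b * b)) = (l * e * l⁻¹ * e⁻¹) ^ (k * 1) := by
    rw [mul_one, ← hz1, hz2, ← pow_mul, Nat.mul_assoc]
  have hmod : k * (b * b) ≡ k * 1 [MOD p] := by
    have := pow_eq_pow_iff_modEq.mp hfin
    rwa [h.z_order] at this
  have hcop : Nat.gcd p k = 1 := (Nat.Prime.coprime_iff_not_dvd hp).mpr hk
  have := Nat.ModEq.cancel_left_of_coprime hcop hmod
  rw [pow_two]
  exact this

end Cfg

end Cfsg.Agent.Lib.Helper13.Rk2Aut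

namespace Cfsg.Agent.Lib.Helper13

open Rk2Aut

/-- In a `p`-group `G` (`p` odd) of `p`-rank `2` whose elements of order dividing `p` form a
subgroup `E` of order `p ^ 3`, an automorphism acts on the image of `e` in `E / Z(E)` by an
eigenvalue `b` with `b ^ 2 = 1`, as soon as some `s` moves the line of `e` modulo `Z(E)`. -/
theorem rk2_aut_eigen {G : Type*} [Group G] [Finite G] {p : ℕ} [Fact p.Prime] (hp2 : p ≠ 2)
    (hG : IsPGroup p G) (E : Subgroup G) (hE : ∀ x, x ∈ E ↔ x ^ p = 1)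
    (hEcard : Nat.card E = p ^ 3)
    (hrk : ∀ A : Subgroup G, (∀ a ∈ A, ∀ b ∈ A, a * b = b * a) → (∀ a ∈ A, a ^ p = 1) →
      Nat.card A ≤ p ^ 2)
    (α : G ≃* G) (e w : G) (he : e ∈ E) (hw : w ∈ E) (hwc : ∀ x ∈ E, x * w = w * x) (b : ℕ)
    (hα : α e = e ^ b * w) (s : G)
    (hs : ∀ (i : ℕ) (v : G), v ∈ E → (∀ x ∈ E, x * v = v * x) → s * e * s⁻¹ ≠ e ^ i * v) :
    b ^ 2 ≡ 1 [MOD p] := by
  have hp : p.Prime := Fact.out
  have hEn : ∀ g x, x ∈ E → g * x * g⁻¹ ∈ E := by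
    intro g x hx
    rw [hE] at hx ⊢
    rw [conj_pow, hx]
    group
  have hnc : ∃ x ∈ E, ∃ y ∈ E, x * y ≠ y * x := by
    by_contra hcon
    have hab : ∀ a ∈ E, ∀ b ∈ E, a * b = b * a := by
      intro a ha b hb
      by_contra hne
      exact hcon ⟨a, ha, b, hb, hne⟩
    have := hrk E hab (fun a ha => (hE a).mp ha)
    rw [hEcard] at this
    have h1 : p ^ 2 < p ^ 3 := Nat.pow_lt_pow_right hp.one_lt (by norm_num)
    omega
  obtain ⟨hZ, hcomm⟩ := card_zE_and_comm hG E hEcard hnc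
  have hZc := zE_central hG E hEn hZ
  have hwZ : w ∈ zE E := mem_zE.mpr ⟨hw, hwc⟩
  have hs' : ∀ (i : ℕ) (v : G), v ∈ zE E → s * e * s⁻¹ ≠ e ^ i * v :=
    fun i v hv => hs i v (zE_le E hv) (mem_zE.mp hv).2
  have heZ : e ∉ zE E := by
    intro h
    apply hs' 0 e h
    rw [hZc e h s]; group
  haveI : (zE E).Normal := ⟨fun v hv g => zE_conj hEn hv g⟩
  haveI : E.Normal := ⟨fun x hx g => hEn g x hx⟩
  have hneZ : zE E ≠ E := by
    intro h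
    apply heZ
    rw [h]; exact he
  obtain ⟨l1, hl1, hl1Z, hl1c⟩ :=
    Cfsg.Agent.Lib.Helper41.CL.exists_central_mod_aux hG (zE E) E (zE_le E) hneZ
  -- `e` and `l1` do not commute
  have hel1 : e * l1 ≠ l1 * e := by
    intro hc
    obtain ⟨i, v, hv, hev⟩ := comm_form E hEcard hEn hZ hl1 hl1Z he hc
    have hζ := hl1c s
    have hζc := hZc _ hζ
    apply hs' 1 ((s * l1 * s⁻¹ * l1⁻¹) ^ i) (Subgroup.pow_mem _ hζ i)
    have h1 : s * l1 * s⁻¹ = (s * l1 * s⁻¹ * l1⁻¹) * l1 := by group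
    have h2 : s * v = v * s := hZc v hv s
    have h3 : s * (l1 ^ i * v) * s⁻¹ = (s * l1 * s⁻¹) ^ i * (s * v) * s⁻¹ := by
      rw [conj_pow]; group
    calc s * e * s⁻¹ = s * (l1 ^ i * v) * s⁻¹ := by rw [← hev]
      _ = (s * l1 * s⁻¹) ^ i * (s * v) * s⁻¹ := h3
      _ = ((s * l1 * s⁻¹ * l1⁻¹) * l1) ^ i * (v * s) * s⁻¹ := by rw [← h1, h2]
      _ = (s * l1 * s⁻¹ * l1⁻¹) ^ i * l1 ^ i * (v * s) * s⁻¹ := by
          rw [(show Commute (s * l1 * s⁻¹ * l1⁻¹) l1 from (hζc l1).symm).mul_pow]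
      _ = (s * l1 * s⁻¹ * l1⁻¹) ^ i * (l1 ^ i * v) := by group
      _ = (s * l1 * s⁻¹ * l1⁻¹) ^ i * e := by rw [← hev]
      _ = e ^ 1 * (s * l1 * s⁻¹ * l1⁻¹) ^ i := by
          rw [pow_one, (Commute.pow_right (show Commute e (s * l1 * s⁻¹ * l1⁻¹) from hζc e) i).eq]
  -- the generator `d = [l1, e]` of the centre
  have hdZ : l1 * e * l1⁻¹ * e⁻¹ ∈ zE E := hcomm l1 hl1 e he
  have hd1 : l1 * e * l1⁻¹ * e⁻¹ ≠ 1 := by
    intro h1
    apply hel1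
    calc e * l1 = (l1 * e * l1⁻¹ * e⁻¹)⁻¹ * l1 * e := by group
      _ = l1 * e := by rw [h1]; group
  have hdc := hZc _ hdZ
  obtain ⟨i, hi⟩ := gen_of_card_prime (zE E) hZ hdZ hd1 _ (hl1c s)
  have hel : e ^ i * l1 * (e ^ i)⁻¹ = ((l1 * e * l1⁻¹ * e⁻¹)⁻¹) ^ i * l1 :=
    conj_pow_of_comm (Commute.inv_right (show Commute e (l1 * e * l1⁻¹ * e⁻¹) from hdc e)).eq
      (by group) i
  -- `y = e ^ i * s` commutes with `l1`
  obtain ⟨y, hy⟩ : ∃ y : G, y = e ^ i * s := ⟨_, rfl⟩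
  have hyl1 : y * l1 = l1 * y := by
    have h1 : s * l1 = (l1 * e * l1⁻¹ * e⁻¹) ^ i * l1 * s := by
      calc s * l1 = (s * l1 * s⁻¹ * l1⁻¹) * l1 * s := by group
        _ = (l1 * e * l1⁻¹ * e⁻¹) ^ i * l1 * s := by rw [hi]
    have h2 : e ^ i * l1 = ((l1 * e * l1⁻¹ * e⁻¹)⁻¹) ^ i * l1 * e ^ i := by
      calc e ^ i * l1 = (e ^ i * l1 * (e ^ i)⁻¹) * e ^ i := by group
        _ = ((l1 * e * l1⁻¹ * e⁻¹)⁻¹) ^ i * l1 * e ^ i := by rw [hel]
    have h3 : ∀ g : G, g * (l1 * e * l1⁻¹ * e⁻¹) ^ i = (l1 * e * l1⁻¹ * e⁻¹) ^ i * g :=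
      fun g => (Commute.pow_right (hdc g) i).eq
    rw [hy]
    calc (e ^ i * s) * l1 = e ^ i * (s * l1) := by group
      _ = e ^ i * ((l1 * e * l1⁻¹ * e⁻¹) ^ i * l1 * s) := by rw [h1]
      _ = (e ^ i * (l1 * e * l1⁻¹ * e⁻¹) ^ i) * l1 * s := by group
      _ = (l1 * e * l1⁻¹ * e⁻¹) ^ i * (e ^ i * l1) * s := by rw [h3]; group
      _ = (l1 * e * l1⁻¹ * e⁻¹) ^ i * (((l1 * e * l1⁻¹ * e⁻¹)⁻¹) ^ i * l1 * e ^ i) * s := by
          rw [h2]
      _ = l1 * (e ^ i * s) := by rw [inv_pow]; group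
  -- `l = [y, e]`
  obtain ⟨l, hl⟩ : ∃ l : G, l = y * e * y⁻¹ * e⁻¹ := ⟨_, rfl⟩
  have hlE : l ∈ E := by
    rw [hl]; exact E.mul_mem (hEn y e he) (E.inv_mem he)
  have hll1 : l * l1 = l1 * l := by
    have h1 : l1 * e * l1⁻¹ = (l1 * e * l1⁻¹ * e⁻¹) * e := by group
    have h2 : l1 * y * l1⁻¹ = y := by rw [← hyl1]; group
    have h3 : l1 * l * l1⁻¹ = l := by
      calc l1 * l * l1⁻¹
          = (l1 * y * l1⁻¹) * (l1 * e * l1⁻¹) * (l1 * y * l1⁻¹)⁻¹ * (l1 * e * l1⁻¹)⁻¹ := by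
            rw [hl]; group
        _ = y * ((l1 * e * l1⁻¹ * e⁻¹) * e) * y⁻¹ * ((l1 * e * l1⁻¹ * e⁻¹) * e)⁻¹ := by
            rw [h2, ← h1]
        _ = y * (e * (l1 * e * l1⁻¹ * e⁻¹)) * y⁻¹ * (e * (l1 * e * l1⁻¹ * e⁻¹))⁻¹ := by
            rw [hdc e]
        _ = y * e * ((l1 * e * l1⁻¹ * e⁻¹) * y⁻¹) * (l1 * e * l1⁻¹ * e⁻¹)⁻¹ * e⁻¹ := by group
        _ = y * e * (y⁻¹ * (l1 * e * l1⁻¹ * e⁻¹)) * (l1 * e * l1⁻¹ * e⁻¹)⁻¹ * e⁻¹ := by
            rw [← hdc y⁻¹]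
        _ = l := by rw [hl]; group
    calc l * l1 = (l1 * l * l1⁻¹) * l1 := by rw [h3]
      _ = l1 * l := by group
  have hlZ : l ∉ zE E := by
    intro hlz
    apply hs' 1 l hlz
    have h1 : y * e * y⁻¹ = l * e := by rw [hl]; group
    have h2 : s = (e ^ i)⁻¹ * y := by rw [hy]; group
    have h3 := hZc l hlz
    calc s * e * s⁻¹ = (e ^ i)⁻¹ * (y * e * y⁻¹) * e ^ i := by rw [h2]; group
      _ = (e ^ i)⁻¹ * (l * e) * e ^ i := by rw [h1]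
      _ = ((e ^ i)⁻¹ * l) * e * e ^ i := by group
      _ = (l * (e ^ i)⁻¹) * e * e ^ i := by rw [h3]
      _ = l * e := by group
      _ = e ^ 1 * l := by rw [pow_one, h3]
  obtain ⟨m, v, hv, hlm⟩ := comm_form E hEcard hEn hZ hl1 hl1Z hlE hll1
  have hyl : y * l = l * y := by
    have c1 : Commute y (l1 ^ m) := Commute.pow_right hyl1 m
    have c2 : Commute y v := hZc v hv y
    rw [hlm]
    exact (c1.mul_right c2).eq
  have hlc : ∀ g : G, g * l * g⁻¹ * l⁻¹ ∈ zE E := by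
    intro g
    have hζ := hl1c g
    have hζc := hZc _ hζ
    have h1 : g * l1 * g⁻¹ = (g * l1 * g⁻¹ * l1⁻¹) * l1 := by group
    have h2 : g * v = v * g := hZc v hv g
    have h3 : g * (l1 ^ m * v) * g⁻¹ * (l1 ^ m * v)⁻¹ = (g * l1 * g⁻¹ * l1⁻¹) ^ m := by
      calc g * (l1 ^ m * v) * g⁻¹ * (l1 ^ m * v)⁻¹
          = (g * l1 * g⁻¹) ^ m * (g * v) * g⁻¹ * v⁻¹ * (l1 ^ m)⁻¹ := by
            rw [conj_pow]; group
        _ = ((g * l1 * g⁻¹ * l1⁻¹) * l1) ^ m * (v * g) * g⁻¹ * v⁻¹ * (l1 ^ m)⁻¹ := by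
            rw [← h1, h2]
        _ = (g * l1 * g⁻¹ * l1⁻¹) ^ m * l1 ^ m * (v * g) * g⁻¹ * v⁻¹ * (l1 ^ m)⁻¹ := by
            rw [(show Commute (g * l1 * g⁻¹ * l1⁻¹) l1 from (hζc l1).symm).mul_pow]
        _ = (g * l1 * g⁻¹ * l1⁻¹) ^ m := by group
    rw [hlm, h3]
    exact Subgroup.pow_mem _ hζ m
  have hcfg : Cfg p E e l y :=
    { hEcard := hEcard, hEp := hE, hZ := hZ, hZc := hZc, hcomm := hcomm, he := he, hl := hlE,
      hlZ := hlZ, hlc := hlc, hyl := hyl, hye := by rw [hl]; group }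
  exact hcfg.final hp2 hG α hwZ b hα

end Cfsg.Agent.Lib.Helper13
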