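import Mathlib
import Cfsg.Agent.Lib.Helper50.SU4Q3Def
import Cfsg.Agent.Lib.Helper71.Asch5

/-! Project SU4 (helper50, S5784), sub-piece Q3IRR (proved by helper13): the two-qubit Pauli group
is absolutely irreducible on `F^4` in characteristic not 2. -/

set_option autoImplicit false

namespace Cfsg.Agent.Lib.Helper13.SU4Q3IRR

open Matrix Cfsg.Geo Cfsg.Agent.Lib.Helper71.Asch Cfsg.Agent.Lib.Helper50.SU4Q3Def

variable {F : Type*} [Field F] [Fintype F] {q : ℕ}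

omit [Fintype F] in
theorem su4q3irr_mem (ι : F) :
    (Matrix.diagonal ![1, 1, -1, -1] : Matrix (Fin 4) (Fin 4) F) ∈ matrixSet (su4Pauli ι) ∧
    (Matrix.diagonal ![1, -1, 1, -1] : Matrix (Fin 4) (Fin 4) F) ∈ matrixSet (su4Pauli ι) ∧
    (!![0, 0, 1, 0; 0, 0, 0, 1; 1, 0, 0, 0; 0, 1, 0, 0] : Matrix (Fin 4) (Fin 4) F) ∈
      matrixSet (su4Pauli ι) ∧
    (!![0, 1, 0, 0; 1, 0, 0, 0; 0, 0, 0, 1; 0, 0, 1, 0] : Matrix (Fin 4) (Fin 4) F) ∈
      matrixSet (su4Pauli ι) := by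
  have h1 : (Matrix.diagonal ![1, 1, -1, -1] : Matrix (Fin 4) (Fin 4) F) *
      Matrix.diagonal ![1, 1, -1, -1] = 1 := by
    ext i j
    fin_cases i <;> fin_cases j <;>
      simp [Matrix.mul_apply, Matrix.diagonal_apply]
  have h2 : (Matrix.diagonal ![1, -1, 1, -1] : Matrix (Fin 4) (Fin 4) F) *
      Matrix.diagonal ![1, -1, 1, -1] = 1 := by
    ext i j
    fin_cases i <;> fin_cases j <;>
      simp [Matrix.mul_apply, Matrix.diagonal_apply]
  have h3 : (!![0, 0, 1, 0; 0, 0, 0, 1; 1, 0, 0, 0; 0, 1, 0, 0] : Matrix (Fin 4) (Fin 4) F) *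
      !![0, 0, 1, 0; 0, 0, 0, 1; 1, 0, 0, 0; 0, 1, 0, 0] = 1 := by
    ext i j
    fin_cases i <;> fin_cases j <;>
      simp [Matrix.mul_apply, Fin.sum_univ_four]
  have h4 : (!![0, 1, 0, 0; 1, 0, 0, 0; 0, 0, 0, 1; 0, 0, 1, 0] : Matrix (Fin 4) (Fin 4) F) *
      !![0, 1, 0, 0; 1, 0, 0, 0; 0, 0, 0, 1; 0, 0, 1, 0] = 1 := by
    ext i j
    fin_cases i <;> fin_cases j <;>
      simp [Matrix.mul_apply, Fin.sum_univ_four]
  refine ⟨?_, ?_, ?_, ?_⟩
  · exact ⟨⟨_, _, h1, h1⟩, Subgroup.subset_closure (Or.inr (Or.inl rfl)), rfl⟩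
  · exact ⟨⟨_, _, h2, h2⟩, Subgroup.subset_closure (Or.inr (Or.inr (Or.inl rfl))), rfl⟩
  · exact ⟨⟨_, _, h3, h3⟩,
      Subgroup.subset_closure (Or.inr (Or.inr (Or.inr (Or.inl rfl)))), rfl⟩
  · exact ⟨⟨_, _, h4, h4⟩,
      Subgroup.subset_closure (Or.inr (Or.inr (Or.inr (Or.inr rfl)))), rfl⟩

omit [Fintype F] in
theorem su4q3irr_proj (h2 : (2 : F) ≠ 0) (W : Submodule F (Fin 4 → F))
    (hZ1 : ∀ v ∈ W, (fun k => (![1, 1, -1, -1] : Fin 4 → F) k * v k) ∈ W)
    (hZ2 : ∀ v ∈ W, (fun k => (![1, -1, 1, -1] : Fin 4 → F) k * v k) ∈ W)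
    (v : Fin 4 → F) (hv : v ∈ W) (j : Fin 4) : (Pi.single j (v j) : Fin 4 → F) ∈ W := by
  have h4 : (4 : F) ≠ 0 := by
    have h : (4 : F) = 2 * 2 := by norm_num
    rw [h]
    exact mul_ne_zero h2 h2
  have a1 := hZ1 v hv
  have a2 := hZ2 v hv
  have a3 := hZ1 _ a2
  fin_cases j
  · have e : (Pi.single (0 : Fin 4) (v 0) : Fin 4 → F) = (4 : F)⁻¹ •
        (v + (fun k => (![1, 1, -1, -1] : Fin 4 → F) k * v k) +
          (fun k => (![1, -1, 1, -1] : Fin 4 → F) k * v k) +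
          (fun k => (![1, 1, -1, -1] : Fin 4 → F) k * ((![1, -1, 1, -1] : Fin 4 → F) k * v k))) := by
      ext k
      fin_cases k <;> simp <;> (field_simp; ring)
    show (Pi.single (0 : Fin 4) (v 0) : Fin 4 → F) ∈ W
    rw [e]
    exact W.smul_mem _ (W.add_mem (W.add_mem (W.add_mem hv a1) a2) a3)
  · have e : (Pi.single (1 : Fin 4) (v 1) : Fin 4 → F) = (4 : F)⁻¹ •
        (v + (fun k => (![1, 1, -1, -1] : Fin 4 → F) k * v k) -
          (fun k => (![1, -1, 1, -1] : Fin 4 → F) k * v k) -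
          (fun k => (![1, 1, -1, -1] : Fin 4 → F) k * ((![1, -1, 1, -1] : Fin 4 → F) k * v k))) := by
      ext k
      fin_cases k <;> simp <;> (field_simp; ring)
    show (Pi.single (1 : Fin 4) (v 1) : Fin 4 → F) ∈ W
    rw [e]
    exact W.smul_mem _ (W.sub_mem (W.sub_mem (W.add_mem hv a1) a2) a3)
  · have e : (Pi.single (2 : Fin 4) (v 2) : Fin 4 → F) = (4 : F)⁻¹ •
        (v - (fun k => (![1, 1, -1, -1] : Fin 4 → F) k * v k) +
          (fun k => (![1, -1, 1, -1] : Fin 4 → F) k * v k) -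
          (fun k => (![1, 1, -1, -1] : Fin 4 → F) k * ((![1, -1, 1, -1] : Fin 4 → F) k * v k))) := by
      ext k
      fin_cases k <;> simp <;> (field_simp; ring)
    show (Pi.single (2 : Fin 4) (v 2) : Fin 4 → F) ∈ W
    rw [e]
    exact W.smul_mem _ (W.sub_mem (W.add_mem (W.sub_mem hv a1) a2) a3)
  · have e : (Pi.single (3 : Fin 4) (v 3) : Fin 4 → F) = (4 : F)⁻¹ •
        (v - (fun k => (![1, 1, -1, -1] : Fin 4 → F) k * v k) -
          (fun k => (![1, -1, 1, -1] : Fin 4 → F) k * v k) +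
          (fun k => (![1, 1, -1, -1] : Fin 4 → F) k * ((![1, -1, 1, -1] : Fin 4 → F) k * v k))) := by
      ext k
      fin_cases k <;> simp <;> (field_simp; ring)
    show (Pi.single (3 : Fin 4) (v 3) : Fin 4 → F) ∈ W
    rw [e]
    exact W.smul_mem _ (W.add_mem (W.sub_mem (W.sub_mem hv a1) a2) a3)

omit [Fintype F] in
theorem su4q3irr_irr (ι : F) (h2 : (2 : F) ≠ 0) : ActsIrreducibly (matrixSet (su4Pauli ι)) := by
  intro W hW
  obtain ⟨m1, m2, m3, m4⟩ := su4q3irr_mem (F := F) ι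
  have hinv : ∀ s ∈ matrixSet (su4Pauli ι), ∀ v ∈ W, s *ᵥ v ∈ W := by
    intro s hs v hv
    have h := hW s hs (Submodule.mem_map_of_mem hv)
    rwa [Matrix.toLin'_apply] at h
  have hZ1 : ∀ v ∈ W, (fun k => (![1, 1, -1, -1] : Fin 4 → F) k * v k) ∈ W := by
    intro v hv
    have h := hinv _ m1 v hv
    have e : (Matrix.diagonal ![1, 1, -1, -1] : Matrix (Fin 4) (Fin 4) F) *ᵥ v =
        fun k => (![1, 1, -1, -1] : Fin 4 → F) k * v k := by
      funext k
      rw [Matrix.mulVec_diagonal]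
    rwa [e] at h
  have hZ2 : ∀ v ∈ W, (fun k => (![1, -1, 1, -1] : Fin 4 → F) k * v k) ∈ W := by
    intro v hv
    have h := hinv _ m2 v hv
    have e : (Matrix.diagonal ![1, -1, 1, -1] : Matrix (Fin 4) (Fin 4) F) *ᵥ v =
        fun k => (![1, -1, 1, -1] : Fin 4 → F) k * v k := by
      funext k
      rw [Matrix.mulVec_diagonal]
    rwa [e] at h
  have hX1 : ∀ v ∈ W, (![v 2, v 3, v 0, v 1] : Fin 4 → F) ∈ W := by
    intro v hv
    have h := hinv _ m3 v hv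
    have e : (!![0, 0, 1, 0; 0, 0, 0, 1; 1, 0, 0, 0; 0, 1, 0, 0] : Matrix (Fin 4) (Fin 4) F) *ᵥ v
        = ![v 2, v 3, v 0, v 1] := by
      ext k
      fin_cases k <;> simp [Matrix.mulVec, dotProduct, Fin.sum_univ_four]
    rwa [e] at h
  have hX2 : ∀ v ∈ W, (![v 1, v 0, v 3, v 2] : Fin 4 → F) ∈ W := by
    intro v hv
    have h := hinv _ m4 v hv
    have e : (!![0, 1, 0, 0; 1, 0, 0, 0; 0, 0, 0, 1; 0, 0, 1, 0] : Matrix (Fin 4) (Fin 4) F) *ᵥ v
        = ![v 1, v 0, v 3, v 2] := by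
      ext k
      fin_cases k <;> simp [Matrix.mulVec, dotProduct, Fin.sum_univ_four]
    rwa [e] at h
  by_cases hbot : W = ⊥
  · exact Or.inl hbot
  right
  obtain ⟨w, hwW, hw0⟩ := (Submodule.ne_bot_iff W).mp hbot
  obtain ⟨j, hj⟩ : ∃ j, w j ≠ 0 := by
    by_contra hcon
    exact hw0 (funext fun k => not_not.mp fun hk => hcon ⟨k, hk⟩)
  have hEj : (Pi.single j (1 : F) : Fin 4 → F) ∈ W := by
    have h := W.smul_mem (w j)⁻¹ (su4q3irr_proj h2 W hZ1 hZ2 w hwW j)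
    have e : (w j)⁻¹ • (Pi.single j (w j) : Fin 4 → F) = Pi.single j 1 := by
      ext k
      by_cases hk : k = j
      · subst hk
        simp [hj]
      · simp [hk]
    rwa [e] at h
  have hs1 : ∀ k : Fin 4, (Pi.single k (1 : F) : Fin 4 → F) ∈ W →
      (Pi.single ((![2, 3, 0, 1] : Fin 4 → Fin 4) k) (1 : F) : Fin 4 → F) ∈ W := by
    intro k hk
    have h := hX1 _ hk
    have e : (![(Pi.single k (1 : F) : Fin 4 → F) 2, (Pi.single k (1 : F) : Fin 4 → F) 3,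
        (Pi.single k (1 : F) : Fin 4 → F) 0, (Pi.single k (1 : F) : Fin 4 → F) 1] : Fin 4 → F) =
        Pi.single ((![2, 3, 0, 1] : Fin 4 → Fin 4) k) (1 : F) := by
      ext r
      fin_cases k <;> fin_cases r <;> simp
    rwa [e] at h
  have hs2 : ∀ k : Fin 4, (Pi.single k (1 : F) : Fin 4 → F) ∈ W →
      (Pi.single ((![1, 0, 3, 2] : Fin 4 → Fin 4) k) (1 : F) : Fin 4 → F) ∈ W := by
    intro k hk
    have h := hX2 _ hk
    have e : (![(Pi.single k (1 : F) : Fin 4 → F) 1, (Pi.single k (1 : F) : Fin 4 → F) 0,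
        (Pi.single k (1 : F) : Fin 4 → F) 3, (Pi.single k (1 : F) : Fin 4 → F) 2] : Fin 4 → F) =
        Pi.single ((![1, 0, 3, 2] : Fin 4 → Fin 4) k) (1 : F) := by
      ext r
      fin_cases k <;> fin_cases r <;> simp
    rwa [e] at h
  have hall : ∀ k : Fin 4, (Pi.single k (1 : F) : Fin 4 → F) ∈ W := by
    intro k
    fin_cases j <;> fin_cases k <;>
      first
      | exact hEj
      | exact hs1 _ hEj
      | exact hs2 _ hEj
      | exact hs1 _ (hs2 _ hEj)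
  rw [Submodule.eq_top_iff']
  intro u
  have e : u = u 0 • (Pi.single 0 (1 : F) : Fin 4 → F) + u 1 • (Pi.single 1 (1 : F) : Fin 4 → F) +
      u 2 • (Pi.single 2 (1 : F) : Fin 4 → F) + u 3 • (Pi.single 3 (1 : F) : Fin 4 → F) := by
    ext k
    fin_cases k <;> simp
  rw [e]
  exact W.add_mem (W.add_mem (W.add_mem (W.smul_mem _ (hall 0)) (W.smul_mem _ (hall 1)))
    (W.smul_mem _ (hall 2))) (W.smul_mem _ (hall 3))

omit [Fintype F] in
theorem su4q3irr_comm (ι : F) (h2 : (2 : F) ≠ 0) (M : Matrix (Fin 4) (Fin 4) F)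
    (hM : ∀ s ∈ matrixSet (su4Pauli ι), M * s = s * M) :
    ∃ c : F, M = c • (1 : Matrix (Fin 4) (Fin 4) F) := by
  obtain ⟨m1, m2, m3, m4⟩ := su4q3irr_mem (F := F) ι
  have hZ1 := hM _ m1
  have hZ2 := hM _ m2
  have hX1 := hM _ m3
  have hX2 := hM _ m4
  have key : ∀ z : Fin 4 → F, M * Matrix.diagonal z = Matrix.diagonal z * M →
      ∀ r c : Fin 4, z r = - z c → z c * z c = 1 → M r c = 0 := by
    intro z hzM r c h1 h3
    have e := congrFun (congrFun hzM r) c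
    rw [Matrix.mul_diagonal, Matrix.diagonal_mul, h1] at e
    have h5 : 2 * M r c = 0 := by linear_combination (z c) * e - 2 * M r c * h3
    rcases mul_eq_zero.mp h5 with h | h
    · exact absurd h h2
    · exact h
  have hoff : ∀ r c : Fin 4, r ≠ c → M r c = 0 := by
    intro r c hrc
    fin_cases r <;> fin_cases c <;>
      first
      | exact absurd rfl hrc
      | (refine key _ hZ1 _ _ ?_ ?_ <;> (simp; done))
      | (refine key _ hZ2 _ _ ?_ ?_ <;> (simp; done))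
  have e02 : M 0 0 = M 2 2 := by
    have e := congrFun (congrFun hX1 0) 2
    simpa [Matrix.mul_apply, Fin.sum_univ_four] using e
  have e13 : M 1 1 = M 3 3 := by
    have e := congrFun (congrFun hX1 1) 3
    simpa [Matrix.mul_apply, Fin.sum_univ_four] using e
  have e01 : M 0 0 = M 1 1 := by
    have e := congrFun (congrFun hX2 0) 1
    simpa [Matrix.mul_apply, Fin.sum_univ_four] using e
  have hdiag : ∀ r : Fin 4, M r r = M 0 0 := by
    intro r
    fin_cases r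
    · rfl
    · exact e01.symm
    · exact e02.symm
    · exact (e01.trans e13).symm
  refine ⟨M 0 0, ?_⟩
  ext r c
  by_cases hrc : r = c
  · subst hrc
    rw [Matrix.smul_apply, Matrix.one_apply_eq, smul_eq_mul, mul_one]
    exact hdiag r
  · rw [Matrix.smul_apply, Matrix.one_apply_ne hrc, smul_zero]
    exact hoff r c hrc

/-- Q3IRR: the Pauli group is absolutely irreducible (characteristic not 2). -/
theorem Q3IRR (ι : F) (hι : ι ^ 2 = -1) (h2 : (2 : F) ≠ 0) :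
    ActsAbsolutelyIrreducibly (matrixSet (su4Pauli ι)) :=
  ⟨su4q3irr_irr ι h2, su4q3irr_comm ι h2⟩

end Cfsg.Agent.Lib.Helper13.SU4Q3IRR
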