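import Mathlib
import Cfsg.Prelude.Def_GeometricClasses
import Cfsg.Prelude.Def_LieClassical
import Cfsg.Agent.Lib.Helper71.Asch0

/-! Project U9 (helper44; S5832): piece `Q2K` (proved by helper13): a perfect group is not a product
of two commuting conjugate solvable subgroups. -/

set_option autoImplicit false

namespace Cfsg.Agent.Lib.Helper44.U9

open Matrix Cfsg.Geo Cfsg.Agent.Lib.Helper71.Asch
open scoped Kronecker

variable {n : ℕ} {F : Type*} [Field F] [Fintype F] {q : ℕ}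

omit [Fintype F] in
theorem Q2K_tmat_mul (e : Fin n ≃ Fin 3 × Fin 3) (P : GL (Fin n) F)
    (a a' : Matrix (Fin 3) (Fin 3) F) :
    tmat e P (a * a') 1 = tmat e P a 1 * tmat e P a' 1 := by
  unfold tmat
  have h1 : (P⁻¹ : GL (Fin n) F).1 * P.1 = 1 := by
    rw [← Units.val_mul, inv_mul_cancel, Units.val_one]
  have h2 : Matrix.reindex e.symm e.symm ((a * a') ⊗ₖ (1 : Matrix (Fin 3) (Fin 3) F)) =
      Matrix.reindex e.symm e.symm (a ⊗ₖ (1 : Matrix (Fin 3) (Fin 3) F)) *
        Matrix.reindex e.symm e.symm (a' ⊗ₖ (1 : Matrix (Fin 3) (Fin 3) F)) := by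
    rw [Matrix.reindex_apply, Matrix.reindex_apply, Matrix.reindex_apply,
      Matrix.submatrix_mul_equiv, ← Matrix.mul_kronecker_mul, mul_one]
  rw [h2]
  simp only [Matrix.mul_assoc]
  rw [← Matrix.mul_assoc (P⁻¹ : GL (Fin n) F).1 P.1, h1, Matrix.one_mul]

omit [Fintype F] in
theorem Q2K_tmat_inj (e : Fin n ≃ Fin 3 × Fin 3) (P : GL (Fin n) F)
    (a a' : Matrix (Fin 3) (Fin 3) F) (h : tmat e P a 1 = tmat e P a' 1) : a = a' := by
  unfold tmat at h
  have h1 : (P⁻¹ : GL (Fin n) F).1 * P.1 = 1 := by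
    rw [← Units.val_mul, inv_mul_cancel, Units.val_one]
  have h2 : ∀ X : Matrix (Fin n) (Fin n) F,
      (P⁻¹ : GL (Fin n) F).1 * (P.1 * X * (P⁻¹ : GL (Fin n) F).1) * P.1 = X := by
    intro X
    calc (P⁻¹ : GL (Fin n) F).1 * (P.1 * X * (P⁻¹ : GL (Fin n) F).1) * P.1
        = ((P⁻¹ : GL (Fin n) F).1 * P.1) * X * ((P⁻¹ : GL (Fin n) F).1 * P.1) := by
          simp only [Matrix.mul_assoc]
      _ = X := by rw [h1, Matrix.one_mul, Matrix.mul_one]
  have h3 := congrArg (fun M => (P⁻¹ : GL (Fin n) F).1 * M * P.1) h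
  simp only [h2] at h3
  have h4 := (Matrix.reindex e.symm e.symm).injective h3
  ext i j
  have h5 := congrFun (congrFun h4 (i, 0)) (j, 0)
  simpa [Matrix.kroneckerMap_apply] using h5

/-- Q2K: a perfect group is not a product of two commuting conjugate solvable subgroups. -/
theorem Q2K (L : Subgroup (GL (Fin n) F)) (hc : ⁅L, L⁆ = L)
    (Ps : Fin 2 → Subgroup (GL (Fin n) F))
    (hcomm : ∀ i j, i ≠ j → ∀ x ∈ Ps i, ∀ y ∈ Ps j, x * y = y * x)
    (hsup : L = ⨆ i, Ps i)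
    (hconj : ∃ h : GL (Fin n) F, (Ps 0).map (MulAut.conj h).toMonoidHom = Ps 1)
    (hns : ¬ Ps 0 ≤ scalars (Fin n) F)
    (e : Fin n ≃ Fin 3 × Fin 3) (P : GL (Fin n) F) (R : Subgroup (GL (Fin 3) F))
    (hsol : Group.IsSolvable ↥R)
    (h1 : ∀ x ∈ Ps 0, ∃ y ∈ R, x.1 = tmat e P y.1 1) : False := by
  -- `Ps 0` is solvable
  choose y hyR hy using h1
  have hmul : ∀ a b : ↥(Ps 0), (⟨y (a * b).1 (a * b).2, hyR _ _⟩ : ↥R) =
      ⟨y a.1 a.2, hyR _ _⟩ * ⟨y b.1 b.2, hyR _ _⟩ := by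
    intro a b
    apply Subtype.ext
    apply Units.ext
    apply Q2K_tmat_inj e P
    show tmat e P (y (a * b).1 (a * b).2).1 1 = tmat e P ((y a.1 a.2).1 * (y b.1 b.2).1) 1
    rw [Q2K_tmat_mul, ← hy, ← hy, ← hy]
    rfl
  let ψ : ↥(Ps 0) →* ↥R := MonoidHom.mk' (fun x => ⟨y x.1 x.2, hyR _ _⟩) hmul
  have hψinj : Function.Injective ψ := by
    intro a b hab
    have h2 : y a.1 a.2 = y b.1 b.2 := congrArg Subtype.val hab
    apply Subtype.ext
    apply Units.ext
    rw [hy a.1 a.2, hy b.1 b.2, h2]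
  haveI h0sol : Group.IsSolvable ↥(Ps 0) := solvable_of_solvable_injective hψinj
  -- `Ps 1` is solvable
  haveI h1sol : Group.IsSolvable ↥(Ps 1) := by
    obtain ⟨h, hh⟩ := hconj
    rw [← hh]
    exact solvable_of_surjective
      (MonoidHom.subgroupMap_surjective (MulAut.conj h).toMonoidHom (Ps 0))
  -- `L` is solvable
  have hcomm01 : ∀ (a : ↥(Ps 0)) (b : ↥(Ps 1)),
      Commute ((Ps 0).subtype a) ((Ps 1).subtype b) :=
    fun a b => hcomm 0 1 (by decide) a.1 a.2 b.1 b.2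
  have hrange : (MonoidHom.noncommCoprod (Ps 0).subtype (Ps 1).subtype hcomm01).range = L := by
    rw [MonoidHom.noncommCoprod_range, Subgroup.range_subtype, Subgroup.range_subtype, hsup]
    apply le_antisymm
    · exact sup_le (le_iSup Ps 0) (le_iSup Ps 1)
    · apply iSup_le
      intro i
      fin_cases i
      · exact le_sup_left
      · exact le_sup_right
  haveI hLsol : Group.IsSolvable ↥L := by
    rw [← hrange]
    exact solvable_of_surjective (MonoidHom.rangeRestrict_surjective _)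
  -- `L` is perfect and solvable, hence trivial
  have hLbot : L = ⊥ := by
    by_contra hne
    have htop : (⊤ : Subgroup ↥L) ≠ ⊥ := by
      intro h
      apply hne
      rw [Subgroup.eq_bot_iff_forall]
      intro x hx
      have h3 : (⟨x, hx⟩ : ↥L) ∈ (⊤ : Subgroup ↥L) := Subgroup.mem_top _
      rw [h, Subgroup.mem_bot] at h3
      exact congrArg Subtype.val h3
    have hlt : ⁅(⊤ : Subgroup ↥L), (⊤ : Subgroup ↥L)⁆ < (⊤ : Subgroup ↥L) :=
      Group.IsSolvable.commutator_lt_of_ne_bot htop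
    have hmap : Subgroup.map L.subtype ⁅(⊤ : Subgroup ↥L), (⊤ : Subgroup ↥L)⁆
        = Subgroup.map L.subtype (⊤ : Subgroup ↥L) := by
      rw [Subgroup.map_commutator, ← MonoidHom.range_eq_map, Subgroup.range_subtype, hc]
    exact hlt.ne (Subgroup.map_injective L.subtype_injective hmap)
  apply hns
  have h4 : Ps 0 ≤ L := by
    rw [hsup]
    exact le_iSup Ps 0
  rw [hLbot] at h4
  exact h4.trans bot_le

end Cfsg.Agent.Lib.Helper44.U9
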